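import Groth.Agent.Lib.ExchangeFP29.PBK.Good
import Groth.Agent.Lib.Bott.WedgeSES
import Groth.Agent.Lib.KVec.Model
import Groth.Agent.Lib.KVec.ExtPowPull
import Groth.Agent.Lib.KAugNil98.Main
import Groth.Agent.S15827

/-!
# The Koszul recursion for the direct images of `O(m)` along a projective bundle
-/

set_option autoImplicit false
set_option linter.style.haveILetI false
set_option linter.unusedSectionVars false
universe u v

open CategoryTheory CategoryTheory.Limits AlgebraicGeometry TopologicalSpace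

noncomputable section

namespace Groth.Agent.Lib.ExchangeFP29.PBK.Koszul

open Groth.Agent Groth.Agent.Lib TensorMod.Basic Groth.Agent.Lib.ExchangeFP29.PBK

attribute [local instance] HasDerivedCategory.standard

theorem of_rk {Y : Scheme.{u}} {M : Y.Modules} (h : FlatMod.IsFinLocFree M) {n : ℕ}
    (hn : ∀ y, KVec.Model.rk M y = n) : FlatMod.IsFinLocFreeOfRank n M := fun y => by
  obtain ⟨U, k, hy, ⟨i⟩⟩ := h y
  obtain rfl : k = n := (KVec.Model.rk_chart i hy).symm.trans (hn y)
  exact ⟨U, hy, ⟨i⟩⟩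

theorem exists_extPow {Y : Scheme.{u}} {M : Y.Modules} (hM : FlatMod.IsFinLocFree M) (i : ℕ) :
    ∃ L : Y.Modules, FlatMod.IsFinLocFree L ∧ ExtPow.IsExtPow i M L := by
  haveI := Modules.AffineSections.isQCoh_of_isFinLocFree hM
  obtain ⟨L, hL⟩ := FundLocal.ExtPowExists.exists_isExtPow (E := M) i
  exact ⟨L, GrassGen.ExtPowFree.isFinLocFree hM hL, hL⟩

theorem isFinLocFree_X1 {Y : Scheme.{u}} {S : ShortComplex Y.Modules} (hS : S.ShortExact)
    (h2 : FlatMod.IsFinLocFree S.X₂) (h3 : FlatMod.IsFinLocFree S.X₃) :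
    FlatMod.IsFinLocFree S.X₁ := by
  haveI := hS.epi_g
  exact TensorMod.LocFree.of_iso
    ((kernelIsKernel S.g).conePointUniqueUpToIso hS.fIsKernel)
    (KAugNil98.Main.isFinLocFree_kernel S.g h2 h3)

theorem rk_of_iso {Y : Scheme.{u}} {M N : Y.Modules} (e : M ≅ N) (hM : FlatMod.IsFinLocFree M) (y : Y) :
    KVec.Model.rk M y = KVec.Model.rk N y := by
  obtain ⟨U, n, hy, ⟨i⟩⟩ := hM y
  rw [KVec.Model.rk_chart i hy, KVec.Model.rk_chart
    ((Scheme.Modules.restrictFunctor U.ι).mapIso e.symm ≪≫ i) hy]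

/-- The multiplicative part of a model of `K(X)`: no augmentation, so `X` need not be connected. -/
structure IsLam (X : Scheme.{u}) (K : Type v) [CommRing K] [LambdaRing.LambdaOps K]
    (φ : SGA6.Kvb X →+ K) : Prop where
  bijective : Function.Bijective φ
  map_one : φ (KRR.cl X (Coh.structureModule X)) = 1
  map_mul : ∀ E F : X.Modules, FlatMod.IsFinLocFree E → FlatMod.IsFinLocFree F →
    φ (KRR.cl X E) * φ (KRR.cl X F) = φ (KRR.cl X (((DCoh.tensorBi (X := X)).obj E).obj F))
  map_lam : ∀ (i : ℕ) (E L : X.Modules), FlatMod.IsFinLocFree E → FlatMod.IsFinLocFree L →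
    ExtPow.IsExtPow i E L → LambdaRing.LambdaOps.lam i (φ (KRR.cl X E)) = φ (KRR.cl X L)

theorem IsLam.of_model {X : Scheme.{u}} {K : Type v} [CommRing K] [LambdaRing.LambdaOps K]
    {PK : LambdaRing.PosStructure K} {φ : SGA6.Kvb X →+ K} (h : KRR.IsModel X K PK φ) : IsLam X K φ :=
  ⟨h.bijective, h.map_one, h.map_mul, h.map_lam⟩

/-- `K₀` of bundles is such a ring. -/
theorem exists_isLam (X : Scheme.{u}) :
    ∃ (K : Type (u + 1)) (_ : CommRing K) (_ : LambdaRing.LambdaOps K) (φ : SGA6.Kvb X →+ K),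
      IsLam X K φ := by
  obtain ⟨lam, -, -, -, -, hlam, hlam0, hlam1, hlamadd⟩ :=
    ExtFilt.Lambda.exists_lam (X := X) fun i E hE => exists_extPow hE i
  letI cr : CommRing (SGA6.Kvb X) := ExtFilt.Lambda.ring X
  let ops : LambdaRing.LambdaOps (SGA6.Kvb X) :=
    { lam := lam, lam_zero := hlam0, lam_one := hlam1, lam_add := hlamadd }
  exact ⟨SGA6.Kvb X, cr, ops, AddMonoidHom.id _, Function.bijective_id, rfl,
    fun E F hE hF => ExtFilt.Lambda.mul_cl hE hF, fun i E L hE _ h => hlam i E L hE h⟩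

variable {X P : Scheme.{u}} {π : P ⟶ X} {E : X.Modules} {O1 : P.Modules}
  {q : (Scheme.Modules.pullback π).obj E ⟶ O1} {r : ℕ}
  (hP : KRR.IsProjBundle π E O1 q) (hE : FlatMod.IsFinLocFreeOfRank (r + 1) E)

/-- `L^i ⊗ O(t + i) ≅ O(t)` for `O(1) ⊗ L ≅ O`. -/
theorem nonempty_powCancel {L : P.Modules} (c : CohB1.tensorMod O1 L ≅ Coh.structureModule P)
    (i t : ℕ) : Nonempty (CohB1.tensorMod (CohB1.tensorPow L i) (CohB1.tensorPow O1 (i + t)) ≅
      CohB1.tensorPow O1 t) :=
  ⟨tensorIso (Iso.refl _) (Ample.Pow.powAdd O1 i t) ≪≫ (assoc _ _ _).symm ≪≫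
    tensorIso ((Ample.Pow.powTensor L O1 i).symm ≪≫ Ample.Pow.powIso (comm L O1 ≪≫ c) i ≪≫
      Ample.Pow.powUnit P i) (Iso.refl _) ≪≫ leftUnit _⟩

/-- The data of the Koszul sequences, untwisted. -/
structure Data (π : P ⟶ X) (E : X.Modules) (O1 : P.Modules) (r : ℕ) where
  /-- the terms `Λ^i Q` -/
  Lm : ℕ → P.Modules
  /-- the middle terms -/
  Mm : ℕ → P.Modules
  /-- the exterior powers of `E` -/
  Gm : ℕ → X.Modules
  hL : ∀ i, FlatMod.IsFinLocFree (Lm i)
  hG : ∀ i, FlatMod.IsFinLocFree (Gm i)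
  hGext : ∀ i, ExtPow.IsExtPow i E (Gm i)
  seq : ∀ i, ∃ S : ShortComplex P.Modules, S.ShortExact ∧ S.X₁ = Lm (i + 1) ∧ S.X₂ = Mm (i + 1) ∧
    S.X₃ = Lm i
  mid : ∀ i t, Nonempty (CohB1.tensorMod (Mm i) (CohB1.tensorPow O1 (i + t)) ≅
    CohB1.tensorMod ((Scheme.Modules.pullback π).obj (Gm i)) (CohB1.tensorPow O1 t))
  zero : ∀ i, r < i → IsZero (Lm i)
  top : Nonempty (Lm 0 ≅ Coh.structureModule P)

include hP hE in
theorem nonempty_data : Nonempty (Data π E O1 r) := by
  classical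
  have hEf : FlatMod.IsFinLocFree E := TensorMod.LocFree.of_rank hE
  have hO : FlatMod.IsFinLocFree O1 := TensorMod.LocFree.of_rank hP.invertible
  have hE' := TensorMod.LocFree.isFinLocFree_pullback π hEf
  haveI := hP.epi
  obtain ⟨L, hLinv, ⟨c⟩⟩ := TensorMod.Invertible.exists_inverse (PBK.isInvertible hP)
  have hL1 : FlatMod.IsFinLocFreeOfRank 1 L := TensorMod.LocFree.of_isInvertible hLinv
  have hLf : FlatMod.IsFinLocFree L := TensorMod.LocFree.of_rank hL1
  let S₀ := ShortComplex.mk (kernel.ι q) q (kernel.condition q)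
  have hS₀ : S₀.ShortExact :=
    ShortComplex.ShortExact.mk' (S₀.exact_of_f_is_kernel (kernelIsKernel q)) inferInstance inferInstance
  have hS₁ := Cyc.CH.shortExact_tensor_right (TensorMod.FPConv.isFlat_of_isFinLocFree hLf) hS₀
  let E' := CohB1.tensorMod ((Scheme.Modules.pullback π).obj E) L
  let γ : E' ⟶ Coh.structureModule P :=
    (S₀.map ((DCoh.tensorBi (X := P)).flip.obj L)).g ≫ c.hom
  haveI : Epi γ := by
    haveI : Epi (S₀.map ((DCoh.tensorBi (X := P)).flip.obj L)).g := hS₁.epi_g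
    exact epi_comp (S₀.map ((DCoh.tensorBi (X := P)).flip.obj L)).g c.hom
  let Q := kernel γ
  let S := ShortComplex.mk (kernel.ι γ) γ (kernel.condition γ)
  have hS : S.ShortExact :=
    ShortComplex.ShortExact.mk' (S.exact_of_f_is_kernel (kernelIsKernel γ)) inferInstance inferInstance
  have hE'f : FlatMod.IsFinLocFree E' := TensorMod.LocFree.isFinLocFree_tensorMod hE' hLf
  have hQ : FlatMod.IsFinLocFree Q :=
    KAugNil98.Main.isFinLocFree_kernel γ hE'f ExtFilt.Lambda.isFinLocFree_structure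
  have hQr : FlatMod.IsFinLocFreeOfRank r Q := of_rk hQ fun y => by
    have h := KVec.Model.rk_add hS hQ hE'f ExtFilt.Lambda.isFinLocFree_structure y
    rw [show KVec.Model.rk S.X₂ y = r + 1 by
        have hr1 := KVec.Model.rk_of_rank
          (TensorMod.LocFree.rank_tensorMod (TensorMod.LocFree.rank_pullback π hE) hL1) y
        rw [Nat.mul_one] at hr1
        exact hr1,
      show KVec.Model.rk S.X₃ y = 1 from
        KVec.Model.rk_of_rank (TensorMod.LocFree.of_isInvertible SurfInt.H2Vanish.isInvertible_structure) y] at h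
    have h' : r + 1 = KVec.Model.rk Q y + 1 := h
    omega
  haveI : Q.IsQuasicoherent := Modules.AffineSections.isQCoh_of_isFinLocFree hQ
  haveI : E'.IsQuasicoherent := Modules.AffineSections.isQCoh_of_isFinLocFree hE'f
  choose Lm hLm hLext using exists_extPow hQ
  choose Mm hMm hMext using exists_extPow hE'f
  choose Gm hGm hGext using exists_extPow hEf
  choose Nm hNm hNext using exists_extPow hE'
  refine ⟨⟨Lm, Mm, Gm, hLm, hGm, hGext, fun i => ?_, fun i t => ?_, fun i hi => ?_, ?_⟩⟩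
  · exact Bott.WedgeSES.exists_shortExact (kernel.condition γ) hS (hLext (i + 1)) (hMext (i + 1))
      (hLext i)
  · obtain ⟨a⟩ := S15827.result _ L hE' hL1 i (Mm i) (Nm i) (hMext i) (hNext i)
    obtain ⟨b⟩ := KVec.ExtPowPull.nonempty_iso_pullback π hEf (hGext i) (hNext i)
    obtain ⟨d⟩ := nonempty_powCancel c i t
    exact ⟨tensorIso (a ≪≫ tensorIso b.symm (Iso.refl _)) (Iso.refl _) ≪≫ assoc _ _ _ ≪≫
      tensorIso (Iso.refl _) d⟩
  · have h := KVec.ExtRank.rank_extPow hQr (hLext i)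
    rw [Nat.choose_eq_zero_of_lt hi] at h
    exact Cyc.CH.isZero_of_rank_zero h
  · exact ExtFilt.Lambda.nonempty_iso_of_isExtPow (hLext 0) (ExtFilt.Lambda.isExtPow_zero _)

variable (D : Data π E O1 r)

/-- The twisted terms. -/
abbrev T (s i : ℕ) : P.Modules := CohB1.tensorMod (D.Lm i) (CohB1.tensorPow O1 s)

theorem isZero_T (s : ℕ) {i : ℕ} (hi : r < i) : IsZero (T D s i) :=
  IsZero.of_iso ((tensorBy (CohB1.tensorPow O1 s)).map_isZero (D.zero i hi)) (Iso.refl _)

theorem isZero_push_T (s : ℕ) {i : ℕ} (hi : r < i) :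
    IsZero ((Scheme.Modules.pushforward π).obj (T D s i)) := by
  haveI := (Scheme.Modules.pullbackPushforwardAdjunction π).isRightAdjoint
  exact (Scheme.Modules.pushforward π).map_isZero (isZero_T D s hi)

include hP in
theorem exists_seq (s i t : ℕ) (h : i + 1 + t = s) :
    ∃ S : ShortComplex P.Modules, S.ShortExact ∧ S.X₁ = T D s (i + 1) ∧ S.X₃ = T D s i ∧
      Nonempty (S.X₂ ≅ CohB1.tensorMod ((Scheme.Modules.pullback π).obj (D.Gm (i + 1)))
        (CohB1.tensorPow O1 t)) := by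
  obtain ⟨S, hS, h1, h2, h3⟩ := D.seq i
  subst h
  obtain ⟨e⟩ := D.mid (i + 1) t
  refine ⟨_, Cyc.CH.shortExact_tensor_right (TensorMod.FPConv.isFlat_of_isFinLocFree
    (TensorMod.LocFree.of_rank (TensorMod.LocFree.of_isInvertible
      (TensorMod.Invertible.isInvertible_tensorPow (PBK.isInvertible hP) (i + 1 + t))))) hS, ?_, ?_, ?_⟩
  · show CohB1.tensorMod S.X₁ _ = _
    rw [h1]
  · show CohB1.tensorMod S.X₃ _ = _
    rw [h3]
  · exact ⟨eqToIso (show CohB1.tensorMod S.X₂ _ = _ by rw [h2]) ≪≫ e⟩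

include hP hE in
theorem acy_T (s : ℕ) (hs : r + 1 ≤ s) (i : ℕ) : Acy π (T D s i) := by
  suffices key : ∀ d i, r + 1 ≤ i + d → Acy π (T D s i) from key (r + 1) i (by omega)
  intro d
  induction d with
  | zero => exact fun i hi => Acy.of_isZero (isZero_T D s (by omega))
  | succ d ih =>
    intro i hi
    rcases le_or_gt (r + 1) i with h | h
    · exact ih i (by omega)
    obtain ⟨S, hS, h1, h3, ⟨e⟩⟩ := exists_seq hP D s i (s - (i + 1)) (by omega)
    rw [← h3]
    exact Acy.right hS (h1.symm ▸ ih (i + 1) (by omega))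
      ((Acy.pull (acy_pow hP hE _) (D.hG (i + 1))).congr e.symm)

include hP hE in
theorem push_seq (s i t : ℕ) (hs : r + 1 ≤ s) (h : i + 1 + t = s) :
    ∃ S : ShortComplex X.Modules, S.ShortExact ∧
      S.X₁ = (Scheme.Modules.pushforward π).obj (T D s (i + 1)) ∧
      S.X₃ = (Scheme.Modules.pushforward π).obj (T D s i) ∧
      Nonempty (S.X₂ ≅ CohB1.tensorMod (D.Gm (i + 1))
        ((Scheme.Modules.pushforward π).obj (CohB1.tensorPow O1 t))) := by
  obtain ⟨S, hS, h1, h3, ⟨e⟩⟩ := exists_seq hP D s i t h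
  obtain ⟨p⟩ := nonempty_proj (π := π) (CohB1.tensorPow O1 t) (D.hG (i + 1))
  refine ⟨_, shortExact_push hS (h1.symm ▸ acy_T hP hE D s hs (i + 1)), ?_, ?_,
    ⟨(Scheme.Modules.pushforward π).mapIso e ≪≫ p⟩⟩
  · show (Scheme.Modules.pushforward π).obj S.X₁ = _
    rw [h1]
  · show (Scheme.Modules.pushforward π).obj S.X₃ = _
    rw [h3]

include D in
theorem nonempty_zero (s : ℕ) : Nonempty (T D s 0 ≅ CohB1.tensorPow O1 s) :=
  ⟨tensorIso D.top.some (Iso.refl _) ≪≫ leftUnit _⟩

include hP hE in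
/-- If the direct images of the higher powers are bundles, so are those of the Koszul terms. -/
theorem isFinLocFree_T (m : ℕ)
    (hm : ∀ t, m < t → FlatMod.IsFinLocFree ((Scheme.Modules.pushforward π).obj (CohB1.tensorPow O1 t))) :
    ∀ i, i ≤ r → FlatMod.IsFinLocFree ((Scheme.Modules.pushforward π).obj (T D (m + (r + 1)) i)) := by
  intro i
  induction i with
  | zero =>
    intro _
    exact TensorMod.LocFree.of_iso ((Scheme.Modules.pushforward π).mapIso (nonempty_zero D _).some.symm)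
      (hm _ (by omega))
  | succ i ih =>
    intro hi
    obtain ⟨S, hS, h1, h3, ⟨e⟩⟩ := push_seq hP hE D (m + (r + 1)) i (m + (r - i)) (by omega) (by omega)
    rw [← h1]
    exact isFinLocFree_X1 hS
      (TensorMod.LocFree.of_iso e.symm
        (TensorMod.LocFree.isFinLocFree_tensorMod (D.hG _) (hm _ (by omega))))
      (h3.symm ▸ ih (by omega))

include hP hE in
/-- The direct image of `O(m)` is a bundle for every `m ≥ 0`. -/
theorem isFinLocFree_push_pow [CompactSpace X] [IsProper π] (m : ℕ) :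
    FlatMod.IsFinLocFree ((Scheme.Modules.pushforward π).obj (CohB1.tensorPow O1 m)) := by
  obtain ⟨D⟩ := nonempty_data hP hE
  obtain ⟨n₀, hn₀⟩ := Good.eventually_good hP hE (ExtFilt.Lambda.isFinLocFree_structure (X := P))
  suffices key : ∀ d m, n₀ ≤ m + d →
      FlatMod.IsFinLocFree ((Scheme.Modules.pushforward π).obj (CohB1.tensorPow O1 m)) from
    key n₀ m (by omega)
  intro d
  induction d with
  | zero =>
    exact fun m hm => TensorMod.LocFree.of_iso ((Scheme.Modules.pushforward π).mapIso (leftUnit _))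
      (hn₀ m (by omega)).1
  | succ d ih =>
    intro m hm
    have hgt : ∀ t, m < t →
        FlatMod.IsFinLocFree ((Scheme.Modules.pushforward π).obj (CohB1.tensorPow O1 t)) :=
      fun t ht => ih t (by omega)
    obtain ⟨S, hS, h1, h3, ⟨e⟩⟩ := push_seq hP hE D (m + (r + 1)) r m (by omega) (by omega)
    have hz : IsZero S.X₁ := by
      rw [h1]
      exact isZero_push_T D _ (by omega)
    haveI := hS.epi_g
    haveI : Mono S.g := hS.exact.mono_g (hz.eq_of_src _ _)
    haveI : IsIso S.g := isIso_of_mono_of_epi _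
    have hmid := TensorMod.LocFree.of_iso ((asIso S.g).symm ≪≫ e)
      (h3.symm ▸ isFinLocFree_T hP hE D m hgt r le_rfl)
    have hGr : FlatMod.IsFinLocFreeOfRank 1 (D.Gm (r + 1)) := by
      have h := KVec.ExtRank.rank_extPow hE (D.hGext (r + 1))
      rwa [Nat.choose_self] at h
    obtain ⟨M, hM, ⟨cM⟩⟩ := TensorMod.Invertible.exists_inverse
      (TensorMod.LocFree.isInvertible_of_rank_one hGr)
    exact TensorMod.LocFree.of_iso
      ((assoc _ _ _).symm ≪≫ tensorIso (comm _ _ ≪≫ cM) (Iso.refl _) ≪≫ leftUnit _)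
      (TensorMod.LocFree.isFinLocFree_tensorMod
        (TensorMod.LocFree.of_rank (TensorMod.LocFree.of_isInvertible hM)) hmid)

section Classes

variable {K : Type v} [CommRing K] [LambdaRing.LambdaOps K]
  {φ : SGA6.Kvb X →+ K} (hK : IsLam X K φ)

variable (π O1 φ) in
/-- The class of the direct image of `O(m)`. -/
abbrev pushPow (m : ℕ) : K :=
  φ (KRR.cl X ((Scheme.Modules.pushforward π).obj (CohB1.tensorPow O1 m)))

include hP hE hK in
/-- The Koszul recursion. -/
theorem recursion [CompactSpace X] [IsProper π] (m : ℕ) :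
    ∑ i ∈ Finset.range (r + 2), (-1 : K) ^ i * LambdaRing.LambdaOps.lam i (φ (KRR.cl X E)) *
      pushPow π O1 φ (m + (r + 1) - i) = 0 := by
  obtain ⟨D⟩ := nonempty_data hP hE
  set s := m + (r + 1) with hs
  let c : ℕ → K := fun i => φ (KRR.cl X ((Scheme.Modules.pushforward π).obj (T D s i)))
  have hEf : FlatMod.IsFinLocFree E := TensorMod.LocFree.of_rank hE
  have hT : ∀ i, FlatMod.IsFinLocFree ((Scheme.Modules.pushforward π).obj (T D s i)) := by
    intro i
    rcases le_or_gt i r with hi | hi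
    · exact isFinLocFree_T hP hE D m (fun t _ => isFinLocFree_push_pow hP hE t) i hi
    · exact KAugNil98.Main.isFinLocFree_isZero (isZero_push_T D s hi)
  have hc0 : c 0 = pushPow π O1 φ s :=
    congrArg φ (KAugNil98.Main.cl_iso
      ((Scheme.Modules.pushforward π).mapIso (nonempty_zero D s).some) (hT 0))
  have hstep : ∀ i, i < r + 1 → c (i + 1) + c i =
      LambdaRing.LambdaOps.lam (i + 1) (φ (KRR.cl X E)) * pushPow π O1 φ (s - (i + 1)) := by
    intro i hi
    obtain ⟨S, hS, h1, h3, ⟨e⟩⟩ := push_seq hP hE D s i (s - (i + 1)) (by omega) (by omega)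
    have hmid := TensorMod.LocFree.isFinLocFree_tensorMod (D.hG (i + 1))
      (isFinLocFree_push_pow hP hE (s - (i + 1)))
    have h1' : FlatMod.IsFinLocFree S.X₁ := h1.symm ▸ hT (i + 1)
    have h3' : FlatMod.IsFinLocFree S.X₃ := h3.symm ▸ hT i
    have h2' := TensorMod.LocFree.of_iso e.symm hmid
    have hrel := congrArg φ (KAugNil98.Main.clSub_shortExact hS h1' h2' h3')
    rw [hK.map_lam (i + 1) E (D.Gm (i + 1)) hEf (D.hG _) (D.hGext _), pushPow,
      hK.map_mul _ _ (D.hG _) (isFinLocFree_push_pow hP hE _)]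
    refine Eq.trans ?_ (congrArg φ (KAugNil98.Main.cl_iso e h2'))
    show φ (KRR.cl X _) + φ (KRR.cl X _) = _
    rw [← h1, ← h3, ← map_add]
    exact hrel.symm
  have key : ∀ k, k ≤ r + 1 → ∑ i ∈ Finset.range (k + 1),
      (-1 : K) ^ i * LambdaRing.LambdaOps.lam i (φ (KRR.cl X E)) * pushPow π O1 φ (s - i) =
        (-1 : K) ^ k * c k := by
    intro k hk
    induction k with
    | zero => simp [hc0, LambdaRing.LambdaOps.lam_zero]
    | succ k ih =>
      rw [Finset.sum_range_succ, ih (by omega), mul_assoc, ← hstep k (by omega), pow_succ]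
      ring
  have hlast : c (r + 1) = 0 := by
    exact (congrArg φ (KAugNil98.Main.cl_isZero (isZero_push_T D s (by omega)))).trans (map_zero _)
  rw [key (r + 1) le_rfl, hlast, mul_zero]

variable {K' : Type v} [CommRing K'] [LambdaRing.LambdaOps K'] {φ' : SGA6.Kvb P →+ K'}
  (hK' : IsLam P K' φ') (g : K →+* K') (hg : KRR.IsPull π φ φ' g.toAddMonoidHom)

include hP hE hK hK' hg in
/-- The tautological relation in `K(P(E))`. -/
theorem relation : ∑ i ∈ Finset.range (r + 2), (-1 : K') ^ i *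
    g (LambdaRing.LambdaOps.lam i (φ (KRR.cl X E))) * φ' (KRR.cl P O1) ^ (r + 1 - i) = 0 := by
  obtain ⟨D⟩ := nonempty_data hP hE
  have hEf : FlatMod.IsFinLocFree E := TensorMod.LocFree.of_rank hE
  have hO : FlatMod.IsFinLocFree O1 := TensorMod.LocFree.of_rank hP.invertible
  have hpow : ∀ t : ℕ, FlatMod.IsFinLocFree (CohB1.tensorPow O1 t) := fun t =>
    TensorMod.LocFree.of_rank (TensorMod.LocFree.of_isInvertible
      (TensorMod.Invertible.isInvertible_tensorPow (PBK.isInvertible hP) t))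
  have hcl : ∀ t : ℕ, φ' (KRR.cl P (CohB1.tensorPow O1 t)) = φ' (KRR.cl P O1) ^ t := by
    intro t
    induction t with
    | zero => rw [pow_zero]; exact hK'.map_one
    | succ t ih =>
      rw [pow_succ, ← ih]
      exact (hK'.map_mul _ _ (hpow t) hO).symm
  let c : ℕ → K' := fun i => φ' (KRR.cl P (T D (r + 1) i))
  have hT : ∀ i, FlatMod.IsFinLocFree (T D (r + 1) i) := fun i =>
    TensorMod.LocFree.isFinLocFree_tensorMod (D.hL i) (hpow _)
  have hstep : ∀ i, i < r + 1 → c (i + 1) + c i =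
      g (LambdaRing.LambdaOps.lam (i + 1) (φ (KRR.cl X E))) * φ' (KRR.cl P O1) ^ (r + 1 - (i + 1)) := by
    intro i hi
    obtain ⟨S, hS, h1, h3, ⟨e⟩⟩ := exists_seq hP D (r + 1) i (r + 1 - (i + 1)) (by omega)
    have hp := TensorMod.LocFree.isFinLocFree_pullback π (D.hG (i + 1))
    have h2' := TensorMod.LocFree.of_iso e.symm
      (TensorMod.LocFree.isFinLocFree_tensorMod hp (hpow (r + 1 - (i + 1))))
    have hrel := congrArg φ' (KAugNil98.Main.clSub_shortExact hS (h1.symm ▸ hT (i + 1)) h2'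
      (h3.symm ▸ hT i))
    have hgG : g (φ (KRR.cl X (D.Gm (i + 1)))) =
        φ' (KRR.cl P ((Scheme.Modules.pullback π).obj (D.Gm (i + 1)))) := hg _ (D.hG _)
    rw [hK.map_lam (i + 1) E (D.Gm (i + 1)) hEf (D.hG _) (D.hGext _), hgG, ← hcl,
      hK'.map_mul _ _ hp (hpow _)]
    refine Eq.trans ?_ (congrArg φ' (KAugNil98.Main.cl_iso e h2'))
    show φ' (KRR.cl P _) + φ' (KRR.cl P _) = _
    rw [← h1, ← h3, ← map_add]
    exact hrel.symm
  have key : ∀ k, k ≤ r + 1 → ∑ i ∈ Finset.range (k + 1), (-1 : K') ^ i *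
      g (LambdaRing.LambdaOps.lam i (φ (KRR.cl X E))) * φ' (KRR.cl P O1) ^ (r + 1 - i) =
        (-1 : K') ^ k * c k := by
    intro k hk
    induction k with
    | zero =>
      simp only [zero_add, Finset.sum_range_one, pow_zero, one_mul, Nat.sub_zero,
        LambdaRing.LambdaOps.lam_zero, map_one]
      rw [← hcl]
      exact (congrArg φ' (KAugNil98.Main.cl_iso (nonempty_zero D _).some (hT 0))).symm
    | succ k ih =>
      rw [Finset.sum_range_succ, ih (by omega), mul_assoc, ← hstep k (by omega), pow_succ]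
      ring
  rw [key (r + 1) le_rfl]
  exact mul_eq_zero_of_right _
    ((congrArg φ' (KAugNil98.Main.cl_isZero (isZero_T D _ (Nat.lt_succ_self r)))).trans (map_zero _))

include hP hE hK in
theorem isUnit_lam : IsUnit (LambdaRing.LambdaOps.lam (r + 1) (φ (KRR.cl X E))) := by
  have hEf : FlatMod.IsFinLocFree E := TensorMod.LocFree.of_rank hE
  obtain ⟨G, hG, hGE⟩ := exists_extPow hEf (r + 1)
  have h1 := KVec.ExtRank.rank_extPow hE hGE
  rw [Nat.choose_self] at h1
  obtain ⟨M, hM, ⟨e⟩⟩ := TensorMod.Invertible.exists_inverse (TensorMod.LocFree.isInvertible_of_rank_one h1)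
  have hMf := TensorMod.LocFree.of_rank (TensorMod.LocFree.of_isInvertible hM)
  rw [hK.map_lam _ E G hEf hG hGE]
  refine isUnit_iff_exists_inv.2 ⟨φ (KRR.cl X M), ?_⟩
  rw [hK.map_mul G M hG hMf, ← hK.map_one]
  exact congrArg φ (KAugNil98.Main.cl_iso e (TensorMod.LocFree.isFinLocFree_tensorMod hG hMf))

end Classes

end Groth.Agent.Lib.ExchangeFP29.PBK.Koszul
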