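import Groth.Agent.Lib.ExchangeFP29.PBK.Basis
import Groth.Agent.Lib.ExchangeFP29.KPush.GammaFil

/-!
# The splitting scheme and the γ-filtration
-/

set_option autoImplicit false
set_option linter.style.haveILetI false
set_option linter.unusedSectionVars false
universe u v w

open CategoryTheory CategoryTheory.Limits AlgebraicGeometry TopologicalSpace

noncomputable section

namespace Groth.Agent.Lib.ExchangeFP29.PBK.Tower

open Groth.Agent Groth.Agent.Lib TensorMod.Basic Groth.Agent.Lib.ExchangeFP29.PBK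
open Groth.Agent.Lib.ExchangeFP29.KPush

attribute [local instance] HasDerivedCategory.standard

section Bundle

variable {X P : Scheme.{u}} [IsNoetherian X] [ConnectedSpace ↥X] [IsNoetherian P] [ConnectedSpace ↥P]
  {π : P ⟶ X} {E : X.Modules} {O1 : P.Modules}
  {q : (Scheme.Modules.pullback π).obj E ⟶ O1} {r : ℕ}
  (hP : KRR.IsProjBundle π E O1 q) (hE : FlatMod.IsFinLocFreeOfRank (r + 1) E)
  {KX : Type v} [CommRing KX] [LambdaRing.LambdaOps KX] {PX : LambdaRing.PosStructure KX}
  {φX : SGA6.Kvb X →+ KX} (hKX : KRR.IsModel X KX PX φX)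
  {KP : Type v} [CommRing KP] [LambdaRing.LambdaOps KP] {PP : LambdaRing.PosStructure KP}
  {φP : SGA6.Kvb P →+ KP} (hKP : KRR.IsModel P KP PP φP)
  (g : KX →+* KP) (hg : KRR.IsPull π φX φP g.toAddMonoidHom)

include hKX hKP hg in
/-- λ-operations on a positive element twisted by a line bundle. -/
theorem lam_pull_twist {f : KX} (hf : f ∈ PX.pos) {L : P.Modules}
    (hL : FlatMod.IsFinLocFreeOfRank 1 L) (j : ℕ) :
    LambdaRing.LambdaOps.lam j (g f * φP (KRR.cl P L)) =
      g (LambdaRing.LambdaOps.lam j f) * φP (KRR.cl P L) ^ j := by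
  obtain ⟨m, G, -, hGr, rfl⟩ := (hKX.mem_pos_iff f).1 hf
  have hG := TensorMod.LocFree.of_rank hGr
  have hLf := TensorMod.LocFree.of_rank hL
  obtain ⟨W, hWB, hW⟩ := Koszul.exists_extPow hG j
  have hG' := TensorMod.LocFree.isFinLocFree_pullback π hG
  obtain ⟨N, hNB, hN⟩ := Koszul.exists_extPow hG' j
  have hGL := TensorMod.LocFree.isFinLocFree_tensorMod hG' hLf
  obtain ⟨M, hMB, hM⟩ := Koszul.exists_extPow hGL j
  obtain ⟨e₁⟩ := KVec.ExtPowPull.nonempty_iso_pullback π hG hW hN
  obtain ⟨e₂⟩ := S15827.result _ L hG' hL j M N hM hN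
  have hgG : g (φX (KRR.cl X G)) = φP (KRR.cl P ((Scheme.Modules.pullback π).obj G)) := hg G hG
  have hgW : g (φX (KRR.cl X W)) = φP (KRR.cl P ((Scheme.Modules.pullback π).obj W)) := hg W hWB
  rw [hKX.map_lam j G W hG hWB hW, hgG, hgW,
    KAugNil98.Main.cl_iso e₁ (TensorMod.LocFree.isFinLocFree_pullback _ hWB),
    ← (Gen.map_pow_cl (Koszul.IsLam.of_model hKP) hNB hLf j).1, hKP.map_mul _ _ hG' hLf]
  exact (hKP.map_lam j _ M hGL hMB hM).trans (congrArg φP (KAugNil98.Main.cl_iso e₂ hMB))

include hP hE hKX hKP hg in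
/-- The γ-filtration of `K(P(E))` meets `K(X)` in the γ-filtration of `K(X)`. -/
theorem comap_gammaFiltration (haug : ∀ x, PP.aug (g x) = PX.aug x) (k : ℕ) :
    (LambdaRing.gammaFiltration PP k).comap g.toAddMonoidHom ≤ LambdaRing.gammaFiltration PX k := by
  set l := φP (KRR.cl P O1) with hl
  set e := φX (KRR.cl X E) with he
  have hbij := Basis.comb_bijective hP hE (Koszul.IsLam.of_model hKX) (Koszul.IsLam.of_model hKP) g hg
  have hO := TensorMod.LocFree.of_rank hP.invertible
  have hpow : ∀ i : ℕ, ∃ L : P.Modules, FlatMod.IsFinLocFreeOfRank 1 L ∧ φP (KRR.cl P L) = l ^ i :=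
    fun i => by
    refine ⟨_, TensorMod.LocFree.of_isInvertible
      (TensorMod.Invertible.isInvertible_tensorPow (PBK.isInvertible hP) i), ?_⟩
    have h := (Gen.map_pow_cl (Koszul.IsLam.of_model hKP) (F := Coh.structureModule P) ExtFilt.Lambda.isFinLocFree_structure hO i).1
    rw [hKP.map_one, one_mul] at h
    refine Eq.trans (congrArg φP (KAugNil98.Main.cl_iso (leftUnit _).symm ?_)) h
    exact (Gen.map_pow_cl (Koszul.IsLam.of_model hKP) (F := Coh.structureModule P) ExtFilt.Lambda.isFinLocFree_structure hO i).2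
  have hPaug : PX.aug e = (r + 1 : ℕ) := hKX.aug_cl _ _ hE
  have hepos : e ∈ PX.pos := (hKX.mem_pos_iff _).2 ⟨r + 1, E, Nat.le_add_left 1 r, hE, rfl⟩
  -- the γ-filtration upstairs
  have hfil : LambdaRing.gammaFiltration PP k ≤ GammaFil.G PX g (l - 1) k := by
    refine GammaFil.gammaFiltration_le_G haug ?_ (fun x => ?_) (fun f hf i j => ?_) k
    · rw [map_sub, map_one, hl, hKP.aug_cl 1 O1 hP.invertible, Nat.cast_one, sub_self]
    · obtain ⟨a, rfl⟩ := hbij.2 x
      show ∑ i : Fin (r + 1), g (a i) * l ^ (i : ℕ) ∈ GammaFil.G PX g (l - 1) 0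
      refine sum_mem fun i _ => ?_
      have h1 : l ∈ GammaFil.G PX g (l - 1) 0 := by
        have h := add_mem (GammaFil.G_anti (Nat.zero_le 1)
          (GammaFil.u_mem_one (P := PX) (q := g) (u := l - 1))) GammaFil.one_mem_zero
        rwa [sub_add_cancel] at h
      simpa using GammaFil.G_mul (GammaFil.map_mem (q := g) (u := l - 1)
        (Lambda.mem_gammaFiltration_zero (P := PX) (a i))) (GammaFil.G_pow h1 (i : ℕ))
    · rw [show 1 + (l - 1) = l by ring]
      obtain ⟨L, hL, hLi⟩ := hpow i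
      rw [← hLi]
      exact lam_pull_twist hKX hKP g hg hf hL j
  -- reduction to the first `r + 1` powers
  have hrel : (KRR.extPoly PX e).eval₂ g l = 0 := by
    rw [KRR.extPoly, hPaug, Int.toNat_natCast, Polynomial.eval₂_finsetSum,
      ← Koszul.relation hP hE (Koszul.IsLam.of_model hKX) (Koszul.IsLam.of_model hKP) g hg]
    refine Finset.sum_congr rfl fun i _ => ?_
    rw [Polynomial.eval₂_mul, Polynomial.eval₂_C, Polynomial.eval₂_X_pow, map_mul, map_pow, map_neg,
      map_one]
  let θ : AdjoinRoot (KRR.extPoly PX e) →+* KP := AdjoinRoot.lift g l hrel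
  let C : AddSubgroup KP := AddSubgroup.map (Free.comb g r (l - 1))
    (AddSubgroup.pi Set.univ fun i : Fin (r + 1) => LambdaRing.gammaFiltration PX (k - (i : ℕ)))
  have hGC : GammaFil.G PX g (l - 1) k ≤ C := by
    refine GammaFil.G_le fun i c hc => ?_
    have hθ : ∀ i c, θ (AdjoinRoot.of (KRR.extPoly PX e) c *
        (AdjoinRoot.root (KRR.extPoly PX e) - 1) ^ i) = g c * (l - 1) ^ i := fun i c => by
      rw [map_mul, map_pow, map_sub, map_one, AdjoinRoot.lift_of, AdjoinRoot.lift_root]
    rw [← hθ]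
    suffices h : Lambda.ExtFil.G PX e r k ≤ C.comap θ.toAddMonoidHom from
      h (Lambda.ExtFil.gen_mem hepos (by exact_mod_cast hPaug) i hc)
    refine Lambda.ExtFil.G_le fun i hi c hc => ?_
    refine AddSubgroup.mem_comap.2 ?_
    simp only [RingHom.toAddMonoidHom_eq_coe, AddMonoidHom.coe_coe]
    rw [hθ]
    refine ⟨Pi.single ⟨i, by omega⟩ c, fun j _ => ?_, ?_⟩
    · rcases eq_or_ne j ⟨i, by omega⟩ with rfl | hj
      · rwa [Pi.single_eq_same]
      · rw [Pi.single_eq_of_ne hj]
        exact zero_mem (LambdaRing.gammaFiltration PX (k - (j : ℕ)))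
    · refine (Finset.sum_eq_single (⟨i, by omega⟩ : Fin (r + 1)) (fun j _ hj => ?_)
        (fun h => absurd (Finset.mem_univ _) h)).trans ?_
      · rw [Pi.single_eq_of_ne hj, map_zero, zero_mul]
      · rw [Pi.single_eq_same]
  -- uniqueness
  have hinj : Function.Injective (Free.comb g r (l - 1)) := by
    refine (injective_iff_map_eq_zero _).2 fun a ha => ?_
    let p : Polynomial KX := ∑ i : Fin (r + 1), Polynomial.monomial (i : ℕ) (a i)
    have hp : p.natDegree ≤ r := Polynomial.natDegree_sum_le_of_forall_le _ _ fun i _ =>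
      (Polynomial.natDegree_monomial_le _).trans (Nat.le_of_lt_succ i.2)
    have hcoeff : ∀ i : Fin (r + 1), p.coeff (i : ℕ) = a i := fun i => by
      rw [Polynomial.finsetSum_coeff]
      refine (Finset.sum_eq_single i (fun j _ hj => ?_) (fun h => absurd (Finset.mem_univ _) h)).trans ?_
      · rw [Polynomial.coeff_monomial, if_neg fun h => hj (Fin.ext h)]
      · rw [Polynomial.coeff_monomial, if_pos rfl]
    let p' := p.comp (Polynomial.X - Polynomial.C 1)
    have hp' : p'.natDegree ≤ r := Polynomial.natDegree_comp_le.trans (by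
      have h1 : (Polynomial.X - Polynomial.C (1 : KX)).natDegree ≤ 1 := Polynomial.natDegree_X_sub_C_le 1
      calc p.natDegree * (Polynomial.X - Polynomial.C (1 : KX)).natDegree ≤ r * 1 :=
            Nat.mul_le_mul hp h1
        _ = r := Nat.mul_one r)
    have h0 : Free.comb g r l (fun i => p'.coeff (i : ℕ)) = 0 := by
      show ∑ i : Fin (r + 1), g (p'.coeff (i : ℕ)) * l ^ (i : ℕ) = 0
      rw [Fin.sum_univ_eq_sum_range (fun i => g (p'.coeff i) * l ^ i),
        ← Polynomial.eval₂_eq_sum_range' g (Nat.lt_succ_of_le hp'), Polynomial.eval₂_comp,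
        Polynomial.eval₂_sub, Polynomial.eval₂_X, Polynomial.eval₂_C, map_one,
        Polynomial.eval₂_finsetSum, ← ha]
      exact Finset.sum_congr rfl fun i _ => Polynomial.eval₂_monomial _ _
    have hp0 : p' = 0 := Polynomial.ext fun n => by
      rcases le_or_gt n r with hn | hn
      · rw [Polynomial.coeff_zero]
        exact congrFun ((injective_iff_map_eq_zero _).1 hbij.1 _ h0) ⟨n, by omega⟩
      · rw [Polynomial.coeff_zero, Polynomial.coeff_eq_zero_of_natDegree_lt (by omega)]
    have hp00 : p = 0 := by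
      have : p = p'.comp (Polynomial.X + Polynomial.C 1) := by
        rw [Polynomial.comp_assoc]
        simp
      rw [this, hp0, Polynomial.zero_comp]
    exact funext fun i => by rw [← hcoeff i, hp00, Polynomial.coeff_zero]; rfl
  intro y hy
  obtain ⟨c, hc, hcy⟩ := hGC (hfil (show g y ∈ LambdaRing.gammaFiltration PP k from hy))
  have hy' : Free.comb g r (l - 1) (Pi.single 0 y) = g y := by
    refine (Finset.sum_eq_single (0 : Fin (r + 1)) (fun j _ hj => ?_)
      (fun h => absurd (Finset.mem_univ _) h)).trans ?_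
    · rw [Pi.single_eq_of_ne hj, map_zero, zero_mul]
    · rw [Pi.single_eq_same, Fin.val_zero, pow_zero, mul_one]
  have h : c 0 ∈ LambdaRing.gammaFiltration PX (k - ((0 : Fin (r + 1)) : ℕ)) := hc 0 trivial
  rw [hinj (hcy.trans hy'.symm)] at h
  simpa using h

end Bundle

/-- The conclusion of the splitting. -/
def Good {X : Scheme.{u}} {K : Type v} [CommRing K] [LambdaRing.LambdaOps K]
    (P : LambdaRing.PosStructure K) (φ : SGA6.Kvb X →+ K) (m : ℕ) (E : X.Modules) : Prop :=
  ∃ (X' : Scheme.{u}) (_ : IsNoetherian X') (_ : ConnectedSpace ↥X') (f : X' ⟶ X)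
    (K' : Type (u + 1)) (_ : CommRing K') (_ : LambdaRing.LambdaOps K') (P' : LambdaRing.PosStructure K')
    (φ' : SGA6.Kvb X' →+ K') (_ : KRR.IsModel X' K' P' φ') (g : K →+ K') (_ : KRR.IsPull f φ φ' g),
    Function.Injective g ∧ (∀ k : ℕ, (LambdaRing.gammaFiltration P' k).comap g = LambdaRing.gammaFiltration P k) ∧
    ∃ L : Fin m → X'.Modules, (∀ j, FlatMod.IsFinLocFreeOfRank 1 (L j)) ∧
      g (φ (KRR.cl X E)) = ∑ j, φ' (KRR.cl X' (L j))

/-- λ-homomorphisms respecting augmentations respect the γ-filtrations. -/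
theorem le_comap {A : Type v} {B : Type w} [CommRing A] [CommRing B] [LambdaRing.LambdaOps A]
    [LambdaRing.LambdaOps B] {P : LambdaRing.PosStructure A} {Q : LambdaRing.PosStructure B}
    (h : A →+* B) (hlam : ∀ i x, h (LambdaRing.LambdaOps.lam i x) = LambdaRing.LambdaOps.lam i (h x))
    (haug : ∀ x, Q.aug (h x) = P.aug x) (k : ℕ) :
    LambdaRing.gammaFiltration P k ≤ (LambdaRing.gammaFiltration Q k).comap h.toAddMonoidHom := by
  rcases eq_or_ne k 0 with rfl | hk
  · intro x _
    show h x ∈ LambdaRing.gammaFiltration Q 0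
    exact Lambda.mem_gammaFiltration_zero _
  refine Lambda.gammaFiltration_le hk fun l hl hs => ?_
  show h _ ∈ LambdaRing.gammaFiltration Q k
  have hgam : ∀ n x, h (LambdaRing.gamma n x) = LambdaRing.gamma n (h x) := fun n x => by
    unfold LambdaRing.gamma
    split_ifs
    · exact map_one h
    · rw [map_sum]
      refine Finset.sum_congr rfl fun j _ => ?_
      rw [map_mul, map_natCast]
      split_ifs <;> simp [hlam]
  have := Lambda.prod_gamma_mem (P := Q) (n := k) (l := l.map fun p => (p.1, h p.2))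
    (fun p hp => by
      obtain ⟨p', hp', rfl⟩ := List.mem_map.1 hp
      exact (haug _).trans (hl p' hp'))
    (by rw [List.map_map]; exact hs)
  rw [map_list_prod, List.map_map]
  rw [List.map_map] at this
  simpa [Function.comp_def, hgam] using this

theorem isPull_comp {X Y Z : Scheme.{u}} {f : Y ⟶ X} {g : Z ⟶ Y} {A : Type v} {B C : Type w}
    [CommRing A] [CommRing B] [CommRing C] {a : SGA6.Kvb X →+ A} {b : SGA6.Kvb Y →+ B}
    {c : SGA6.Kvb Z →+ C} {F : A →+ B} {G : B →+ C} (hF : KRR.IsPull f a b F) (hG : KRR.IsPull g b c G) :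
    KRR.IsPull (g ≫ f) a c (G.comp F) := fun M hM => by
  have hM' := TensorMod.LocFree.isFinLocFree_pullback f hM
  refine ((congrArg G (hF M hM)).trans (hG _ hM')).trans ?_
  exact congrArg c (KAugNil98.Main.cl_iso ((Scheme.Modules.pullbackComp g f).app M)
    (TensorMod.LocFree.isFinLocFree_pullback g hM'))

/-- The splitting, for models in a fixed universe. -/
theorem good_of_model : ∀ (m : ℕ) {X : Scheme.{u}} [IsNoetherian X] [ConnectedSpace ↥X]
    {K : Type (u + 1)} [CommRing K] [LambdaRing.LambdaOps K] {P : LambdaRing.PosStructure K}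
    {φ : SGA6.Kvb X →+ K}, KRR.IsModel X K P φ → ∀ E : X.Modules,
    FlatMod.IsFinLocFreeOfRank m E → Good P φ m E := by
  intro m
  induction m with
  | zero =>
    intro X _ _ K _ _ P φ hK E hE
    refine ⟨X, inferInstance, inferInstance, 𝟙 X, K, inferInstance, inferInstance, P, φ, hK,
      AddMonoidHom.id K, fun M hM => ?_, Function.injective_id, fun _ => rfl, Fin.elim0,
      fun j => j.elim0, ?_⟩
    · exact (congrArg φ (KAugNil98.Main.cl_iso ((Scheme.Modules.pullbackId X).app M)
        (TensorMod.LocFree.isFinLocFree_pullback _ hM))).symm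
    · rw [AddMonoidHom.id_apply, KAugNil98.Main.cl_isZero (Cyc.CH.isZero_of_rank_zero hE), map_zero]
      exact (Finset.sum_empty (f := fun j : Fin 0 => φ (KRR.cl X (Fin.elim0 j : X.Modules)))).symm
  | succ r ih =>
    intro X _ _ K _ _ PX φ hK E hE
    have hEf : FlatMod.IsFinLocFree E := TensorMod.LocFree.of_rank hE
    obtain ⟨P, π, O1, q, hP, hπ, -⟩ := Cyc.CH.BdlExists.exists_proper E hEf
    haveI := hπ
    haveI : IsLocallyNoetherian P := LocallyOfFiniteType.isLocallyNoetherian π
    haveI : CompactSpace P := QuasiCompact.compactSpace_of_compactSpace π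
    haveI hPn : AlgebraicGeometry.IsNoetherian P := ⟨⟩
    haveI hPc := Split.connectedSpace hP hE
    obtain ⟨K₁, _, _, P₁, φ₁, hK₁⟩ := KVec.Model.exists_model (X := P)
    obtain ⟨h, hh, hlam, haug, -⟩ := Split.exists_pullHom π hK hK₁
    haveI := hP.epi
    have hE' := TensorMod.LocFree.isFinLocFree_pullback π hEf
    have hO := TensorMod.LocFree.of_rank hP.invertible
    have hQ := KAugNil98.Main.isFinLocFree_kernel q hE' hO
    let S := ShortComplex.mk (kernel.ι q) q (kernel.condition q)
    have hS : S.ShortExact :=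
      ShortComplex.ShortExact.mk' (S.exact_of_f_is_kernel (kernelIsKernel q)) inferInstance inferInstance
    have hQr : FlatMod.IsFinLocFreeOfRank r (kernel q) := Koszul.of_rk hQ fun y => by
      have h := KVec.Model.rk_add hS hQ hE' hO y
      rw [show KVec.Model.rk S.X₂ y = r + 1 from
          KVec.Model.rk_of_rank (TensorMod.LocFree.rank_pullback π hE) y,
        show KVec.Model.rk S.X₃ y = 1 from KVec.Model.rk_of_rank hP.invertible y] at h
      have h' : r + 1 = KVec.Model.rk (kernel q) y + 1 := h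
      omega
    have hinj : Function.Injective h := by
      refine (injective_iff_map_eq_zero h).2 fun a ha => ?_
      obtain ⟨y, rfl⟩ := hK.bijective.2 a
      obtain ⟨pb, hpb⟩ := KVec.Pull.exists_pull π
      have hc : h.toAddMonoidHom.comp φ = φ₁.comp pb := KRes.KSub.hom_ext fun G hG =>
        (hh G hG).trans (congrArg φ₁ (hpb G hG)).symm
      have h2 : φ₁ (pb y) = 0 := (DFunLike.congr_fun hc y).symm.trans ha
      rw [Split.pull_injective hP hE hK hpb (hK₁.bijective.1 (h2.trans (map_zero φ₁).symm)), map_zero]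
    have hstep : ∀ k, (LambdaRing.gammaFiltration P₁ k).comap h.toAddMonoidHom =
        LambdaRing.gammaFiltration PX k := fun k =>
      le_antisymm (comap_gammaFiltration hP hE hK hK₁ h hh haug k) (le_comap h hlam haug k)
    obtain ⟨X', i1, i2, f, K', i3, i4, P', φ', hK', g, hg, hginj, hgfil, L, hL, hsum⟩ :=
      ih hK₁ (kernel q) hQr
    refine ⟨X', i1, i2, f ≫ π, K', i3, i4, P', φ', hK', g.comp h.toAddMonoidHom,
      isPull_comp hh hg, hginj.comp hinj, fun k => ?_,
      Fin.snoc L ((Scheme.Modules.pullback f).obj O1), fun j => ?_, ?_⟩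
    · rw [← AddSubgroup.comap_comap, hgfil, hstep]
    · refine Fin.lastCases ?_ (fun j => ?_) j
      · rw [Fin.snoc_last]
        exact TensorMod.LocFree.rank_pullback f hP.invertible
      · rw [Fin.snoc_castSucc]
        exact hL j
    · rw [Fin.sum_univ_castSucc]
      simp only [Fin.snoc_castSucc, Fin.snoc_last]
      rw [← hsum, ← hg O1 hO, ← map_add, ← map_add]
      refine congrArg g ((hh E hEf).trans ?_)
      exact congrArg φ₁ (KRes.KSub.rel (P := KRR.vbP P) hS hQ hE' hO)

/-- The splitting. -/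
theorem good {X : Scheme.{u}} [IsNoetherian X] [ConnectedSpace ↥X]
    {K : Type v} [CommRing K] [LambdaRing.LambdaOps K] {P : LambdaRing.PosStructure K}
    {φ : SGA6.Kvb X →+ K} (hK : KRR.IsModel X K P φ) (m : ℕ) (E : X.Modules)
    (hE : FlatMod.IsFinLocFreeOfRank m E) : Good P φ m E := by
  obtain ⟨K₀, _, _, P₀, φ₀, hK₀⟩ := KVec.Model.exists_model (X := X)
  obtain ⟨θ, hθ, hlam, haug, -⟩ := Split.exists_pullHom (𝟙 X) hK hK₀
  have hθ' : ∀ z, θ (φ z) = φ₀ z := by
    have h : θ.toAddMonoidHom.comp φ = φ₀ := KRes.KSub.hom_ext fun G hG =>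
      (hθ G hG).trans (congrArg φ₀ (KAugNil98.Main.cl_iso ((Scheme.Modules.pullbackId X).app G)
        (TensorMod.LocFree.isFinLocFree_pullback _ hG)))
    exact fun z => DFunLike.congr_fun h z
  have hbij : Function.Bijective θ := by
    refine ⟨(injective_iff_map_eq_zero θ).2 fun a ha => ?_, fun b => ?_⟩
    · obtain ⟨z, rfl⟩ := hK.bijective.2 a
      rw [hθ'] at ha
      rw [hK₀.bijective.1 (ha.trans (map_zero φ₀).symm), map_zero]
    · obtain ⟨z, rfl⟩ := hK₀.bijective.2 b
      exact ⟨φ z, hθ' z⟩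
  let e := RingEquiv.ofBijective θ hbij
  obtain ⟨X', i1, i2, f, K', i3, i4, P', φ', hK', g, hg, hginj, hgfil, L, hL, hsum⟩ :=
    good_of_model m hK₀ E hE
  refine ⟨X', i1, i2, f, K', i3, i4, P', φ', hK', g.comp θ.toAddMonoidHom, fun M hM => ?_,
    hginj.comp hbij.1, fun k => ?_, L, hL, (congrArg g (hθ' _)).trans hsum⟩
  · exact (congrArg g (hθ' _)).trans (hg M hM)
  · rw [← AddSubgroup.comap_comap, hgfil]
    refine le_antisymm (fun x hx => ?_) (le_comap θ hlam haug k)
    have := le_comap (P := P₀) (Q := P) e.symm.toRingHom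
      (fun i y => e.injective (by
        refine (e.apply_symm_apply _).trans ?_
        refine (Eq.trans ?_ (hlam i (e.symm y)).symm)
        exact (congrArg _ (e.apply_symm_apply y)).symm))
      (fun y => by rw [← haug]; exact congrArg P₀.aug (e.apply_symm_apply y)) k hx
    have h2 : e.symm.toRingHom (θ x) = x := e.symm_apply_apply x
    exact h2 ▸ this

end Groth.Agent.Lib.ExchangeFP29.PBK.Tower
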