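import Groth.Agent.Lib.ExchangeFP29.PBK.Chart
import Groth.Agent.Lib.ExchangeFP29.Main
import Groth.Agent.Lib.Exchange.RelVanish
import Groth.Agent.Lib.Exchange.FlatTwist
import Groth.Agent.Lib.HProj.QuasiProj
import Groth.Agent.Lib.ProjCoh.GlobalFun
import Groth.Agent.Lib.CohDelta.BC.Transpose
import Groth.Agent.Lib.ExchangeFP29.RegSheaf
import Groth.Agent.S4483
import Groth.Agent.S3759
import Groth.Agent.S11319
import Groth.Agent.S0927

/-!
# Direct images along a projective bundle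
-/

set_option autoImplicit false
set_option linter.style.haveILetI false
set_option linter.unusedSectionVars false
universe u

open CategoryTheory CategoryTheory.Limits AlgebraicGeometry TopologicalSpace

noncomputable section

namespace Groth.Agent.Lib.ExchangeFP29.PBK

open Groth.Agent Groth.Agent.Lib TensorMod.Basic Groth.Agent.Lib.Cyc.PB

attribute [local instance] HasDerivedCategory.standard

variable {X P : Scheme.{u}} {π : P ⟶ X} {E : X.Modules} {O1 : P.Modules}
  {q : (Scheme.Modules.pullback π).obj E ⟶ O1} {r : ℕ}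
  (hP : KRR.IsProjBundle π E O1 q) (hE : FlatMod.IsFinLocFreeOfRank (r + 1) E)

include hP hE in
theorem exists_chart_nhd (x : X) : ∃ W : X.Opens, x ∈ W ∧ ∀ (V : X.Opens) (hV : IsAffineOpen V), V ≤ W →
    ∃ j : CohB1.ProjSpace r Γ(X, V) ⟶ P, IsOpenImmersion j ∧ Set.range j = (π ⁻¹ᵁ V : Set P) ∧
      Nonempty ((Scheme.Modules.pullback j).obj O1 ≅ Twist.twistProjSpace r Γ(X, V) 1) ∧
      j ≫ π = CohB1.ProjSpace.toSpec r Γ(X, V) ≫ hV.fromSpec := by
  obtain ⟨W, hxW, ⟨e⟩⟩ := hE x
  obtain ⟨e₀, he₀⟩ := TensorMod.Basis.exists_basis_of_iso e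
  exact ⟨W, hxW, fun V hV hVW => Chart.exists_chart' hP hV _ (he₀.res hVW)⟩

include hP in
theorem isInvertible : PicF.IsInvertible O1 := TensorMod.LocFree.isInvertible_of_rank_one hP.invertible

include hP hE in
/-- `O(1)` is relatively ample. -/
theorem isRelAmple [QuasiCompact π] : _root_.RelAmple.IsRelAmple π O1 := by
  refine Ample.RelAmple.isRelAmple_of_local π fun x => ?_
  obtain ⟨W, hxW, hW⟩ := exists_chart_nhd hP hE x
  refine ⟨W, hxW, fun V hV hVW => ?_⟩
  obtain ⟨j, hj, hr, ⟨e⟩, -⟩ := hW V hV hVW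
  haveI := hj
  refine Ample.Restrict.isAmple_pb_of_range_eq j (π ⁻¹ᵁ V).ι ?_
    (Ample.Pow.isAmple_of_iso e.symm (HProj.QuasiProj.isAmple_twist_projSpace r Γ(X, V)))
  rw [Scheme.Opens.range_ι, hr]

include hP hE in
theorem flat : Flat π := by
  refine Flat.of_stalkMap π fun x => ?_
  obtain ⟨η, hη⟩ : ∃ η, π x = η := ⟨_, rfl⟩
  obtain ⟨F⟩ := Univ.nonempty_frame hP hE η
  obtain ⟨l, w, rfl⟩ := F.cover x hη
  set g := F.e l
  haveI : Flat (Spec.map (CommRingCat.ofHom
      (MvPolynomial.C : F.A →+* MvPolynomial (Var l) F.A))) := by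
    rw [HasRingHomProperty.Spec_iff (P := @Flat)]
    exact (RingHom.flat_algebraMap_iff (R := F.A) (S := MvPolynomial (Var l) F.A)).2 inferInstance
  haveI : Flat (g ≫ π) := by
    rw [F.w l]
    infer_instance
  have h := Flat.stalkMap (g ≫ π) w
  rw [Scheme.Hom.stalkMap_comp] at h
  have h2 : (CategoryTheory.inv (g.stalkMap w)).hom.Flat :=
    RingHom.Flat.of_bijective (ConcreteCategory.bijective_of_isIso _)
  have h3 := RingHom.Flat.comp h h2
  have h4 : (π.stalkMap (g w)).hom.Flat := by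
    rw [show π.stalkMap (g w) = (π.stalkMap (g w) ≫ g.stalkMap w) ≫ CategoryTheory.inv (g.stalkMap w) by simp]
    exact h3
  exact h4

include hP hE in
theorem isIso_app (x : X) : ∃ W : X.Opens, x ∈ W ∧
    ∀ (V : X.Opens), IsAffineOpen V → V ≤ W → IsIso (π.app V) := by
  obtain ⟨W, hxW, hW⟩ := exists_chart_nhd hP hE x
  refine ⟨W, hxW, fun V hV hVW => ?_⟩
  obtain ⟨j, hj, hr, -, hw⟩ := hW V hV hVW
  haveI := hj
  have h2 : j ''ᵁ ⊤ = π ⁻¹ᵁ V := by
    rw [Scheme.Hom.image_top_eq_opensRange]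
    exact Opens.ext hr
  have e2 : ⊤ ≤ j ⁻¹ᵁ (π ⁻¹ᵁ V) := by
    rw [← h2]
    exact le_of_eq (Scheme.Hom.preimage_image_eq _ _).symm
  haveI := S3759.isIso_appLE_top _ h2 e2
  have e3 : ⊤ ≤ hV.fromSpec ⁻¹ᵁ V := by rw [hV.fromSpec_preimage_self]
  haveI := S3759.isIso_appLE_top hV.fromSpec (W := V)
    (by rw [Scheme.Hom.image_top_eq_opensRange, hV.opensRange_fromSpec]) e3
  haveI := ProjCoh.GlobalFun.isIso_appTop r Γ(X, V)
  have key : π.app V ≫ j.appLE (π ⁻¹ᵁ V) ⊤ e2 =
      hV.fromSpec.appLE V ⊤ e3 ≫ (CohB1.ProjSpace.toSpec r Γ(X, V)).appTop := by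
    rw [Scheme.Hom.appTop, Scheme.Hom.app_eq_appLE, Scheme.Hom.app_eq_appLE,
      Scheme.Hom.appLE_comp_appLE]
    refine Eq.trans ?_ (Scheme.Hom.appLE_comp_appLE (CohB1.ProjSpace.toSpec r Γ(X, V)) hV.fromSpec
      V ⊤ ⊤ e3 le_rfl).symm
    simp only [hw]
  haveI : IsIso (π.app V ≫ j.appLE (π ⁻¹ᵁ V) ⊤ e2) := by rw [key]; infer_instance
  exact IsIso.of_isIso_comp_right _ (j.appLE _ ⊤ e2)

/-- The unit `O_X ⟶ π_* O_P`. -/
abbrev unitHom (π : P ⟶ X) :
    Coh.structureModule X ⟶ (Scheme.Modules.pushforward π).obj (Coh.structureModule P) :=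
  SheafOfModules.unitToPushforwardObjUnit π.toRingCatSheafHom

include hP hE in
theorem isIso_unitHom : IsIso (unitHom π) := by
  let B : Set X.Opens := {V | IsAffineOpen V ∧ IsIso (π.app V)}
  have hB : Opens.IsBasis B := Opens.isBasis_iff_nbhd.2 fun {U x} hx => by
    obtain ⟨W, hxW, hW⟩ := isIso_app hP hE x
    obtain ⟨V, hV, hxV, hle⟩ :=
      exists_isAffineOpen_mem_and_subset (X := X) (x := x) (U := U ⊓ W) ⟨hx, hxW⟩
    exact ⟨V, ⟨hV, hW V hV fun y hy => (hle hy).2⟩, hxV, fun y hy => (hle hy).1⟩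
  refine CohDelta.BC.Transpose.isIso_of_bijective_basis _ hB fun V hV => ?_
  haveI := hV.2
  exact ConcreteCategory.bijective_of_isIso (π.app V)

/-- No higher direct images. -/
def Acy (π : P ⟶ X) (M : P.Modules) : Prop :=
  ∀ i : ℕ, IsZero ((Coh.RpushAb π (i + 1)).obj (Coh.toAb M))

theorem Acy.congr {M N : P.Modules} (e : M ≅ N) (h : Acy π M) : Acy π N := fun i =>
  (h i).of_iso ((Coh.RpushAb π (i + 1)).mapIso ((H34.HOne.ab P).mapIso e.symm))

theorem Acy.of_isZero {M : P.Modules} (h : IsZero M) : Acy π M := fun i => by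
  haveI : (Coh.RpushAb π (i + 1)).PreservesZeroMorphisms := inferInstance
  exact (Coh.RpushAb π (i + 1)).map_isZero ((H34.HOne.ab P).map_isZero h)

include hP hE in
/-- The powers of `O(1)` are acyclic. -/
theorem acy_pow (s : ℕ) : Acy π (CohB1.tensorPow O1 s) := fun i =>
  S4483.isZero_of_charts π r E hE hP _ (s : ℤ) (i + 1) (by omega) fun A j hj =>
    ⟨Ample.Pow.pullbackPow j O1 s ≪≫ Ample.Pow.powIso hj.some s ≪≫ (S4483.twPow r A s).symm⟩

/-- Direct image on short exact sequences. -/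
theorem shortExact_push {S : ShortComplex P.Modules} (hS : S.ShortExact) (h1 : Acy π S.X₁) :
    (S.map (Scheme.Modules.pushforward π)).ShortExact := by
  haveI : (Scheme.Modules.pushforward π).IsRightAdjoint :=
    (Scheme.Modules.pullbackPushforwardAdjunction _).isRightAdjoint
  haveI : PreservesLimitsOfSize.{0, 0} (Scheme.Modules.pushforward π) :=
    (Scheme.Modules.pullbackPushforwardAdjunction _).rightAdjoint_preservesLimits
  haveI : PreservesFiniteLimits (Scheme.Modules.pushforward π) :=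
    PreservesLimitsOfSize.preservesFiniteLimits _
  haveI hm := hS.mono_f
  refine { exact := hS.exact.map_of_mono_of_preservesKernel _ hm inferInstance,
           mono_f := inferInstanceAs (Mono ((Scheme.Modules.pushforward π).map S.f)),
           epi_g := ?_ }
  have hS' : (S.map (H34.HOne.ab _)).ShortExact := H34.HOne.shortExact_toAb hS
  haveI h0 : Epi (((Coh.pushAb π).rightDerived 0).map (S.map (H34.HOne.ab _)).g) :=
    ((RDer.Connecting.nonempty_derivedLES (Coh.pushAb π)).some.exact₃ _ hS' 0 1 rfl).epi_f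
      ((h1 0).eq_of_tgt _ _)
  have hg : Epi ((Coh.pushAb π).map (S.map (H34.HOne.ab _)).g) :=
    ((MorphismProperty.epimorphisms _).arrow_mk_iso_iff
      (Arrow.isoMk (((Coh.pushAb π).rightDerivedZeroIsoSelf).app _)
        (((Coh.pushAb π).rightDerivedZeroIsoSelf).app _)
        (((Coh.pushAb π).rightDerivedZeroIsoSelf).hom.naturality _).symm)).1 h0
  show Epi ((Scheme.Modules.pushforward π).map S.g)
  haveI : Epi ((H34.HOne.ab X).map ((Scheme.Modules.pushforward π).map S.g)) := hg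
  refine Preadditive.epi_of_cancel_zero _ fun {W} k hk => ?_
  refine (SheafOfModules.toSheaf X.ringCatSheaf).map_injective ?_
  show (H34.HOne.ab X).map k = (H34.HOne.ab X).map 0
  rw [Functor.map_zero, ← cancel_epi ((H34.HOne.ab X).map
    ((Scheme.Modules.pushforward π).map S.g)), ← Functor.map_comp, hk, Functor.map_zero,
    comp_zero]

/-- Acyclicity passes to quotients. -/
theorem Acy.right {S : ShortComplex P.Modules} (hS : S.ShortExact) (h1 : Acy π S.X₁)
    (h2 : Acy π S.X₂) : Acy π S.X₃ := fun i =>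
  ShortComplex.Exact.isZero_X₂
    ((RDer.Connecting.nonempty_derivedLES (Coh.pushAb π)).some.exact₃ _
      (H34.HOne.shortExact_toAb hS) (i + 1) (i + 2) rfl)
    ((h2 i).eq_of_src _ _) ((h1 (i + 1)).eq_of_tgt _ _)

/-- The projection formula. -/
theorem nonempty_proj (M : P.Modules) {G : X.Modules} (hG : FlatMod.IsFinLocFree G) :
    Nonempty ((Scheme.Modules.pushforward π).obj
        (CohB1.tensorMod ((Scheme.Modules.pullback π).obj G) M) ≅
      CohB1.tensorMod G ((Scheme.Modules.pushforward π).obj M)) := by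
  haveI : HasInjectiveResolutions P.Modules :=
    haveI := DerivedOX.Grothendieck.enoughInjectives_modules P
    inferInstance
  obtain ⟨p⟩ := Groth.Agent.S0927.result π M G hG 0
  obtain ⟨a⟩ := Main.nonempty_zeroIso π M
  obtain ⟨b⟩ := Main.nonempty_zeroIso π (CohB1.tensorMod ((Scheme.Modules.pullback π).obj G) M)
  exact ⟨b.symm ≪≫ p.symm ≪≫ tensorIso (Iso.refl G) a⟩

theorem Acy.pull {M : P.Modules} (hM : Acy π M) {G : X.Modules} (hG : FlatMod.IsFinLocFree G) :
    Acy π (CohB1.tensorMod ((Scheme.Modules.pullback π).obj G) M) := fun i => by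
  haveI : HasInjectiveResolutions P.Modules :=
    haveI := DerivedOX.Grothendieck.enoughInjectives_modules P
    inferInstance
  obtain ⟨p⟩ := Groth.Agent.S0927.result π M G hG (i + 1)
  obtain ⟨a⟩ := Groth.Agent.S11319.result π M (i + 1)
  obtain ⟨b⟩ := Groth.Agent.S11319.result π
    (CohB1.tensorMod ((Scheme.Modules.pullback π).obj G) M) (i + 1)
  have h1 : IsZero ((Coh.Rpush π (i + 1)).obj M) := RegSheaf.isZero_of_toAb ((hM i).of_iso a)
  have h2 : IsZero (CohB1.tensorMod G ((Coh.Rpush π (i + 1)).obj M)) :=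
    (tensorBy G).map_isZero h1 |>.of_iso (comm _ _)
  exact IsZero.of_iso ((H34.HOne.ab X).map_isZero (h2.of_iso p.symm)) b.symm

include hP hE in
/-- Large twists of bundles are acyclic with locally free direct image. -/
theorem eventually_good [IsNoetherian X] [IsProper π] {F : P.Modules} (hF : FlatMod.IsFinLocFree F) :
    ∃ n₀ : ℕ, ∀ m, n₀ ≤ m →
      FlatMod.IsFinLocFree ((Scheme.Modules.pushforward π).obj (CohB1.tensorMod F (CohB1.tensorPow O1 m))) ∧
        Acy π (CohB1.tensorMod F (CohB1.tensorPow O1 m)) := by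
  haveI := flat hP hE
  haveI : IsLocallyNoetherian P := LocallyOfFiniteType.isLocallyNoetherian π
  have ha := isRelAmple hP hE
  have hcoh := Perfect.Coherent.isCoh_of_isFinLocFree hF
  obtain ⟨a, ha'⟩ := Exchange.FlatTwist.eventually_finLocFree π ha (isInvertible hP) hcoh
    (_root_.ZarCoh.Exchange.NearFibre.isFlatOver_of_isFinLocFree π hF)
  obtain ⟨b, hb⟩ := Exchange.RelVanish.exists_isZero_RpushAb (f := π) O1 (isInvertible hP)
    (fun W hW => ha.2 ⟨W, hW⟩) F hcoh
  exact ⟨max a b, fun m hm => ⟨ha' m ((le_max_left _ _).trans hm),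
    fun i => hb m ((le_max_right _ _).trans hm) i⟩⟩

end Groth.Agent.Lib.ExchangeFP29.PBK
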