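import Groth.Agent.Lib.ExchangeFP29.PBK.Free
import Groth.Agent.Lib.Cyc.CH.BdlUniq

/-!
# The basis theorem for `K(P(E))`
-/

set_option autoImplicit false
set_option linter.style.haveILetI false
set_option linter.unusedSectionVars false
universe u v

open CategoryTheory CategoryTheory.Limits AlgebraicGeometry TopologicalSpace

noncomputable section

namespace Groth.Agent.Lib.ExchangeFP29.PBK.Basis

open Groth.Agent Groth.Agent.Lib TensorMod.Basic Groth.Agent.Lib.ExchangeFP29.PBK

attribute [local instance] HasDerivedCategory.standard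

variable {X P : Scheme.{u}} [CompactSpace X]
  {π : P ⟶ X} {E : X.Modules} {O1 : P.Modules}
  {q : (Scheme.Modules.pullback π).obj E ⟶ O1} {r : ℕ}
  (hP : KRR.IsProjBundle π E O1 q) (hE : FlatMod.IsFinLocFreeOfRank (r + 1) E)
  {KX : Type v} [CommRing KX] [LambdaRing.LambdaOps KX]
  {φX : SGA6.Kvb X →+ KX} (hKX : Koszul.IsLam X KX φX)
  {KP : Type v} [CommRing KP] [LambdaRing.LambdaOps KP]
  {φP : SGA6.Kvb P →+ KP} (hKP : Koszul.IsLam P KP φP)
  (g : KX →+* KP) (hg : KRR.IsPull π φX φP g.toAddMonoidHom)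

include hP hE hKX hKP hg in
/-- `a ↦ Σ_{i ≤ r} g(a_i) [O(1)]^i` is bijective. -/
theorem comb_bijective : Function.Bijective (Free.comb g r (φP (KRR.cl P O1))) := by
  haveI := Cyc.CH.BdlUniq.isProper hP hE
  refine ⟨Free.comb_injective hP hE hKX hKP g hg, AddMonoidHom.range_eq_top.1 (eq_top_iff.2 ?_)⟩
  set l := φP (KRR.cl P O1) with hl
  set lam : ℕ → KX := fun i => LambdaRing.LambdaOps.lam i (φX (KRR.cl X E)) with hlam
  have hrel := Koszul.relation hP hE hKX hKP g hg
  -- the top power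
  let w : Fin (r + 1) → KX := fun i => -((-1) ^ (r + 1 - (i : ℕ)) * lam (r + 1 - (i : ℕ)))
  have hw : Free.comb g r l w = l ^ (r + 1) := by
    rw [Finset.sum_range_succ'] at hrel
    simp only [pow_zero, one_mul, Nat.sub_zero, LambdaRing.LambdaOps.lam_zero, map_one] at hrel
    rw [eq_comm, ← sub_eq_zero]
    refine Eq.trans ?_ hrel
    rw [sub_eq_add_neg, add_comm (l ^ (r + 1))]
    refine congrArg₂ (· + ·) ?_ rfl
    show -(∑ i : Fin (r + 1), g (w i) * l ^ (i : ℕ)) = _
    rw [← Finset.sum_neg_distrib, ← Finset.sum_range_reflect, Finset.sum_range]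
    refine Finset.sum_congr rfl fun i _ => ?_
    have := i.2
    simp only [w, hlam, map_neg, map_mul, map_pow, map_one]
    rw [show r + 1 - 1 - (i : ℕ) + 1 = r + 1 - (i : ℕ) by omega,
      show r + 1 - (r + 1 - (i : ℕ)) = (i : ℕ) by omega]
    ring
  -- the inverse
  obtain ⟨δ, hδ⟩ := (Koszul.isUnit_lam hP hE hKX).exists_left_inv
  let y : KP := ∑ i ∈ Finset.range (r + 1), g ((-1) ^ r * δ * ((-1) ^ i * lam i)) * l ^ (r - i)
  have hy : y ∈ Gen.span g l := sum_mem fun i _ => Gen.mem_span g l _ _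
  have hy1 : l * y = 1 := by
    rw [Finset.sum_range_succ, Nat.sub_self, pow_zero, mul_one] at hrel
    have h : l * y = g ((-1) ^ r * δ) * ∑ i ∈ Finset.range (r + 1),
        (-1 : KP) ^ i * g (lam i) * l ^ (r + 1 - i) := by
      rw [Finset.mul_sum, Finset.mul_sum]
      refine Finset.sum_congr rfl fun i hi => ?_
      rw [Finset.mem_range] at hi
      rw [show r + 1 - i = (r - i) + 1 by omega, pow_succ]
      simp only [map_mul, map_pow, map_neg, map_one]
      ring
    rw [h]
    simp only [hlam] at hδ ⊢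
    rw [eq_neg_of_add_eq_zero_left hrel]
    simp only [map_mul, map_pow, map_neg, map_one]
    rw [show (-1 : KP) ^ r * g δ * -((-1) ^ (r + 1) * g (LambdaRing.LambdaOps.lam (r + 1) (φX (KRR.cl X E)))) =
      ((-1) ^ r * (-1) ^ r) * (g δ * g (LambdaRing.LambdaOps.lam (r + 1) (φX (KRR.cl X E)))) by ring, ← mul_pow, ← map_mul, hδ, map_one]
    simp
  rw [← Gen.span_eq_top hP hE hKP g hg hy hy1]
  exact Free.span_le_range g l w hw

end Groth.Agent.Lib.ExchangeFP29.PBK.Basis
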