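import Groth.Agent.Lib.ProjSpace.BundleChart

/-!
# Charts of a projective bundle, over the base
-/

set_option autoImplicit false
set_option backward.isDefEq.respectTransparency false
set_option backward.isDefEq.respectTransparency.types false
set_option linter.style.haveILetI false

noncomputable section

universe u

open CategoryTheory CategoryTheory.Limits AlgebraicGeometry TopologicalSpace Opposite
open ZarCoh.FlatBC.PullbackSections

namespace Groth.Agent.Lib.ExchangeFP29.PBK.Chart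

open Groth.Agent.Lib Groth.Agent.Lib.Cyc TensorMod TensorMod.Dual TensorMod.Gen TensorMod.Basis
open Groth.Agent.Lib.Cyc.PB.Sect Groth.Agent.Lib.Cyc.PB.Univ
open Groth.Agent.Lib.ProjSpace Groth.Agent.Lib.ProjSpace.BundleChart

theorem exists_chart' {X P : Scheme.{u}} {π : P ⟶ X} {E : X.Modules} {O1 : P.Modules}
    {q : (Scheme.Modules.pullback π).obj E ⟶ O1} (hP : KRR.IsProjBundle π E O1 q) {U : X.Opens}
    (hUa : IsAffineOpen U) {n : ℕ} (e : Fin (n + 1) → Γ(E, U)) (he : IsBasis e) :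
    ∃ j : CohB1.ProjSpace n Γ(X, U) ⟶ P, IsOpenImmersion j ∧ Set.range j = (π ⁻¹ᵁ U : Set P) ∧
      Nonempty ((Scheme.Modules.pullback j).obj O1 ≅ Twist.twistProjSpace n Γ(X, U) 1) ∧
      j ≫ π = CohB1.ProjSpace.toSpec n Γ(X, U) ≫ hUa.fromSpec := by
  let A : CommRingCat.{u} := Γ(X, U)
  -- the map `h` out of projective space
  let L1 := Twist.twistProjSpace n A 1
  let g1 : CohB1.ProjSpace n A ⟶ X := CohB1.ProjSpace.toSpec n A ≫ hUa.fromSpec
  have hU1 : (⊤ : (CohB1.ProjSpace n A).Opens) ≤ g1 ⁻¹ᵁ U := fun z _ => by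
    show g1 z ∈ (U : Set X)
    rw [← hUa.range_fromSpec]
    exact ⟨_, rfl⟩
  obtain ⟨s1, hs1⟩ := exists_hom_basis g1 hU1 he (N := L1) (fun k => ProjUP.coord n A k)
  have hL1 : FlatMod.IsFinLocFreeOfRank 1 L1 := by
    refine TensorMod.LocFree.of_isInvertible (isInvertible_iff.2 fun x => ?_)
    obtain ⟨i, hi⟩ := Opens.mem_iSup.1
      (show x ∈ iSup (PicProj.Main.U n A) from (ProjSpace.Basic.iSup_basicOpen_X_eq_top n A).ge trivial)
    exact ⟨_, PicProj.Main.gen 1 i, hi, TwistBC.isGen_gen' 1 i⟩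
  have hs1e : Epi s1 := ⟨fun {Z} a b hab => by
    refine HomGlue.hom_ext_gen (U := PicProj.Main.U n A) (ProjSpace.Basic.iSup_basicOpen_X_eq_top n A)
      (PicProj.Main.gen 1) (fun i => TwistBC.isGen_gen' 1 i) fun i => ?_
    rw [← coord_eq_gen, ← HomGlue.rs_app, ← HomGlue.rs_app, ← hs1 i]
    exact congrArg (rs Z le_top) (congrArg (fun φ => φ.app ⊤ (pbRes g1 E hU1 (e i))) hab)⟩
  obtain ⟨h, hg, ih, hih⟩ :=
    (existsUnique_hom e hP he g1 hU1 hL1 s1 hs1e _ hs1).exists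
  -- the map `r` out of the preimage
  let P0 := (π ⁻¹ᵁ U).toScheme
  let ι0 : P0 ⟶ P := (π ⁻¹ᵁ U).ι
  have hι0 : (⊤ : P0.Opens) ≤ ι0 ⁻¹ᵁ (π ⁻¹ᵁ U) := fun z _ => z.2
  let L0 := (Scheme.Modules.pullback ι0).obj O1
  let s0 : Fin (n + 1) → Γ(L0, ⊤) := fun k => pbRes ι0 O1 hι0 (sec q e k)
  have hL0 : PicF.IsInvertible L0 := _root_.PicLoc.isInvertible_pullback ι0 (PB.Univ.invertible hP)
  let q0 : P0 ⟶ Spec A := π.resLE U (π ⁻¹ᵁ U) le_rfl ≫ hUa.isoSpec.hom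
  have hq0 : q0 ≫ hUa.fromSpec = ι0 ≫ π := by
    simp only [q0, Category.assoc]
    rw [hUa.isoSpec_hom, hUa.toSpecΓ_fromSpec, Scheme.Hom.resLE_comp_ι]
  have hgen0 : ProjUP.GeneratedBy L0 s0 := fun x => by
    obtain ⟨l, hl⟩ := exists_mem_locus e hP he (ι0 x) x.2
    have hW : ι0 ⁻¹ᵁ locus q e l ≤ ι0 ⁻¹ᵁ (π ⁻¹ᵁ U) := ι0.preimage_mono (locus_le e l)
    have h1 := isGen_pbRes ι0 (isGen_locus (q := q) e l) (le_refl (ι0 ⁻¹ᵁ locus q e l))
    rw [PB.Sect.pbRes_rs] at h1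
    rw [← PB.Sect.rs_pbRes ι0 O1 hι0 le_top] at h1
    refine eq_top_iff.2 ((PB.span_germ_eq_top h1 x hl).ge.trans (Submodule.span_mono ?_))
    rintro _ rfl
    exact ⟨l, (TopCat.Presheaf.germ_res_apply L0.presheaf (homOfLE le_top) x hl (s0 l)).symm⟩
  obtain ⟨r, hr, τ, hτ⟩ := ProjMor.Poly.exists_map n A q0 L0 hL0 s0 hgen0
  -- `r` followed by `h` is the inclusion
  have hrh : r ≫ h = ι0 := by
    haveI := hP.epi
    haveI : PreservesColimitsOfSize.{0, 0} (Scheme.Modules.pullback ι0) :=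
      (Scheme.Modules.pullbackPushforwardAdjunction ι0).leftAdjoint_preservesColimits
    let s := (Scheme.Modules.pullbackCongr (rfl : ι0 ≫ π = ι0 ≫ π)).inv.app E ≫
      (Scheme.Modules.pullbackComp ι0 π).inv.app E ≫ (Scheme.Modules.pullback ι0).map q ≫ 𝟙 L0
    have hs : Epi s := by
      haveI : Epi ((Scheme.Modules.pullback ι0).map q) := inferInstance
      infer_instance
    have hU0 : (⊤ : P0.Opens) ≤ (ι0 ≫ π) ⁻¹ᵁ U := fun z _ => z.2
    refine (existsUnique_hom e hP he (ι0 ≫ π) hU0 (TensorMod.LocFree.of_isInvertible hL0) s hs _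
      fun k => classify_app e rfl hU0 (𝟙 L0) k).unique ⟨?_, ?_⟩ ⟨rfl, Iso.refl _, fun k => rfl⟩
    · rw [Category.assoc, hg, ← Category.assoc, hr, hq0]
    · refine ⟨(DescAlg.PbSec.tr r rfl O1).symm ≪≫ (Scheme.Modules.pullback r).mapIso ih ≪≫ τ, fun k => ?_⟩
      have e1 := DescAlg.PbSec.R_pbRes r (rfl : r ≫ h = r ≫ h) O1
        (le_preimage_of_comp hg hU1) (le_top : (⊤ : P0.Opens) ≤ r ⁻¹ᵁ ⊤) (sec q e k)
      rw [DescAlg.PbSec.R_eq] at e1
      rw [app_trans, app_trans, Iso.symm_hom, Functor.mapIso_hom, ← e1, app_hom_inv,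
        DescAlg.PbSec.pbRes_natural, hih, pullSec_eq, hτ]
      rfl
  -- the inverse of `r`
  have hrange : Set.range h ⊆ Set.range ι0 := by
    rintro _ ⟨z, rfl⟩
    rw [Scheme.Opens.range_ι]
    show π (h z) ∈ U
    rw [← Scheme.Hom.comp_apply, hg]
    exact hU1 trivial
  let h0 : CohB1.ProjSpace n A ⟶ P0 := IsOpenImmersion.lift ι0 h hrange
  have hh0 : h0 ≫ ι0 = h := IsOpenImmersion.lift_fac _ _ _
  have hh0r : h0 ≫ r = 𝟙 _ := by
    have hS : (h0 ≫ r) ≫ CohB1.ProjSpace.toSpec n A = 𝟙 _ ≫ CohB1.ProjSpace.toSpec n A := by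
      rw [← cancel_mono hUa.fromSpec, Category.id_comp, Category.assoc, Category.assoc, ← Category.assoc r,
        hr, hq0, ← Category.assoc, hh0]
      exact hg
    refine ProjMor.Poly.eq_of_iso n A _ _ hS ((DescAlg.PbSec.tr h0 rfl L1).symm ≪≫
      (Scheme.Modules.pullback h0).mapIso τ ≪≫ DescAlg.PbSec.tr h0 hh0 O1 ≪≫ ih ≪≫
        ((Scheme.Modules.pullbackId _).app L1).symm) fun k => ?_
    have e1 := DescAlg.PbSec.R_pbRes h0 (rfl : h0 ≫ r = h0 ≫ r) L1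
      (le_top : (⊤ : P0.Opens) ≤ r ⁻¹ᵁ ⊤) (le_top : (⊤ : (CohB1.ProjSpace n A).Opens) ≤ h0 ⁻¹ᵁ ⊤)
      (ProjUP.coord n A k)
    rw [DescAlg.PbSec.R_eq, pullSec_eq r, pullSec_eq (h0 ≫ r)] at e1
    rw [app_trans, app_trans, app_trans, app_trans, Iso.symm_hom, Iso.symm_hom, Functor.mapIso_hom, ← e1,
      app_hom_inv, DescAlg.PbSec.pbRes_natural, hτ]
    rw [← DescAlg.PbSec.R_eq h0 hh0 O1, DescAlg.PbSec.R_pbRes, hih]
    have e3 := CohDelta.Units.eta_id L1 ⊤ (ProjUP.coord n A k)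
    refine Eq.trans (congrArg (((Scheme.Modules.pullbackId _).app L1).inv.app ⊤) e3.symm) ?_
    show ((Scheme.Modules.pullbackId _).hom.app L1 ≫ (Scheme.Modules.pullbackId _).inv.app L1).app ⊤ _ = _
    rw [Iso.hom_inv_id_app]
    rfl
  have hrh0 : r ≫ h0 = 𝟙 _ := by
    rw [← cancel_mono ι0, Category.assoc, hh0, hrh, Category.id_comp]
  haveI : IsIso h0 := ⟨r, hh0r, hrh0⟩
  refine ⟨h, hh0 ▸ inferInstance, ?_, ⟨ih⟩, hg⟩
  refine Set.Subset.antisymm (by rw [← Scheme.Opens.range_ι]; exact hrange) fun p hp => ?_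
  exact ⟨r ⟨p, hp⟩, by rw [← Scheme.Hom.comp_apply, hrh]; rfl⟩

end Groth.Agent.Lib.ExchangeFP29.PBK.Chart
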