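import Groth.Agent.Lib.ExchangeFP29.PBK.Basic
import Groth.Agent.Lib.ExchangeFP29.KPush.Push
import Groth.Agent.Lib.ExchangeFP29.Mate
import Groth.Agent.Lib.CohDelta.BC.Flat
import Groth.Agent.Lib.H70.KRRReg.Resolution
import Groth.Agent.S3757

/-!
# A projective bundle is, chart by chart, projective space over the base
-/

set_option autoImplicit false
set_option linter.style.haveILetI false
set_option linter.unusedSectionVars false
universe u v

open CategoryTheory CategoryTheory.Limits AlgebraicGeometry TopologicalSpace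

noncomputable section

namespace Groth.Agent.Lib.ExchangeFP29.PBK.Charts

open Groth.Agent Groth.Agent.Lib TensorMod.Basic Groth.Agent.Lib.ExchangeFP29.PBK
open Groth.Agent.Lib.ExchangeFP29.KPush

attribute [local instance] HasDerivedCategory.standard

variable {X P : Scheme.{u}} {π : P ⟶ X} {E : X.Modules} {O1 : P.Modules}
  {q : (Scheme.Modules.pullback π).obj E ⟶ O1} {r : ℕ}
  (hP : KRR.IsProjBundle π E O1 q) (hE : FlatMod.IsFinLocFreeOfRank (r + 1) E)

/-- A chart of `π`: projective space over an open Noetherian piece of the base. -/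
structure Ch (π : P ⟶ X) (O1 : P.Modules) (r : ℕ) where
  /-- the piece of the base -/
  T : Scheme.{u}
  compact : CompactSpace T
  /-- its inclusion -/
  k : T ⟶ X
  k_open : IsOpenImmersion k
  /-- the chart -/
  J : KRR.PY r T ⟶ P
  J_open : IsOpenImmersion J
  sq : IsPullback J (KRR.pr r T) π k
  iso : Nonempty ((Scheme.Modules.pullback J).obj O1 ≅ Twist.twistOver r T 1)

attribute [instance] Ch.compact Ch.k_open Ch.J_open

include hP hE in
/-- Finitely many charts cover. -/
theorem exists_charts [CompactSpace X] :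
    ∃ t : Finset X, ∃ c : X → Ch π O1 r, ∀ x : X, ∃ y ∈ t, x ∈ Set.range (c y).k := by
  have h : ∀ x : X, ∃ c : Ch π O1 r, x ∈ Set.range c.k := by
    intro x
    obtain ⟨W, hxW, hW⟩ := exists_chart_nhd hP hE x
    obtain ⟨V, hV, hxV, hle⟩ := exists_isAffineOpen_mem_and_subset (X := X) (x := x) (U := W) hxW
    obtain ⟨j, hj, hr, ⟨e⟩, hw⟩ := hW V hV hle
    haveI := hj
    let J : KRR.PY r (Spec Γ(X, V)) ⟶ P := (ProjSpace.BaseChange.overSpecIso r Γ(X, V)).hom ≫ j
    have hcomm : J ≫ π = KRR.pr r (Spec Γ(X, V)) ≫ hV.fromSpec := by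
      rw [Category.assoc, hw, ← ProjSpace.BaseChange.overSpecIso_inv_toBase, Category.assoc,
        Iso.hom_inv_id_assoc]
      rfl
    refine ⟨{ T := Spec Γ(X, V), compact := inferInstance, k := hV.fromSpec,
              k_open := inferInstance, J := J, J_open := inferInstance, sq := ?_, iso := ?_ }, ?_⟩
    · refine (IsOpenImmersion.isPullback _ J hV.fromSpec π hcomm ?_).flip
      rw [hV.opensRange_fromSpec]
      have hjr : j.opensRange = π ⁻¹ᵁ V := Opens.ext hr
      exact ((Scheme.Hom.opensRange_comp_of_isIso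
        (ProjSpace.BaseChange.overSpecIso r Γ(X, V)).hom j).trans hjr).symm
    · obtain ⟨e'⟩ := H70.KRRReg.Chart.nonempty_pullback_projMap (n := r) Γ(X, V) 1
      exact ⟨((Scheme.Modules.pullbackComp _ j).app O1).symm ≪≫
        (Scheme.Modules.pullback _).mapIso (e ≪≫ e'.symm) ≪≫
        (Scheme.Modules.pullbackComp _ _).app _ ≪≫
        (Scheme.Modules.pullbackCongr (ProjSpace.BaseChange.overSpecIso_hom_projMap r Γ(X, V))).app _⟩
    · rw [hV.range_fromSpec]
      exact hxV
  choose c hc using h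
  obtain ⟨t, ht⟩ := isCompact_univ.elim_finite_subcover (fun x => Set.range (c x).k)
    (fun x => (c x).k.isOpenEmbedding.isOpen_range) fun x _ => Set.mem_iUnion.2 ⟨x, hc x⟩
  exact ⟨t, c, fun x => by
    obtain ⟨y, hy, hxy⟩ := Set.mem_iUnion₂.1 (ht (Set.mem_univ x))
    exact ⟨y, hy, hxy⟩⟩

variable (c : Ch π O1 r)

/-- The counit of a chart. -/
abbrev cu (M : (KRR.PY r c.T).Modules) :=
  (Scheme.Modules.pullbackPushforwardAdjunction (KRR.pr r c.T)).counit.app M

variable (π) in
/-- The counit upstairs. -/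
abbrev counitP (M : P.Modules) := (Scheme.Modules.pullbackPushforwardAdjunction π).counit.app M

theorem preservesLimits_J : PreservesFiniteLimits (Scheme.Modules.pullback c.J) :=
  CohDelta.BC.Flat.preservesFiniteLimits_pullback c.J

/-- The counit restricts to the counit. -/
theorem nonempty_arrowIso [IsProper π] (Z : P.Modules) [Z.IsQuasicoherent] :
    Nonempty (Arrow.mk ((Scheme.Modules.pullback c.J).map (counitP π Z)) ≅
      Arrow.mk (cu c ((Scheme.Modules.pullback c.J).obj Z))) := by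
  haveI := CohDelta.BC.Flat.isIso_bc0 π c.k c.J (KRR.pr r c.T) c.sq Z
  let A := (Scheme.Modules.pullbackComp (KRR.pr r c.T) c.k).app ((Scheme.Modules.pushforward π).obj Z) ≪≫
    (Scheme.Modules.pullbackCongr c.sq.w.symm).app _ ≪≫
    ((Scheme.Modules.pullbackComp c.J π).app _).symm
  have h := Mate.eq_bc0 π c.k (KRR.pr r c.T) c.J c.sq.w Z
  rw [Equiv.apply_eq_iff_eq_symm_apply, Adjunction.homEquiv_counit] at h
  have hA : A.hom ≫ (Scheme.Modules.pullback c.J).map (counitP π Z) =
      (Scheme.Modules.pullback (KRR.pr r c.T)).map (CohBC.bc0 π c.k (KRR.pr r c.T) c.J c.sq.w Z) ≫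
        cu c ((Scheme.Modules.pullback c.J).obj Z) := by
    refine Eq.trans ?_ h
    simp only [A, Iso.trans_hom, Iso.app_hom, Iso.symm_hom, Iso.app_inv, Category.assoc]
  refine ⟨Arrow.isoMk (A.symm ≪≫ (Scheme.Modules.pullback (KRR.pr r c.T)).mapIso
    (asIso (CohBC.bc0 π c.k (KRR.pr r c.T) c.J c.sq.w Z))) (Iso.refl _) ?_⟩
  show (A.inv ≫ (Scheme.Modules.pullback (KRR.pr r c.T)).map
      (CohBC.bc0 π c.k (KRR.pr r c.T) c.J c.sq.w Z)) ≫ cu c ((Scheme.Modules.pullback c.J).obj Z) =
    (Scheme.Modules.pullback c.J).map (counitP π Z) ≫ 𝟙 _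
  rw [Category.comp_id, Category.assoc, ← hA, Iso.inv_hom_id_assoc]

/-- The direct image restricts to the direct image. -/
theorem nonempty_pushIso [IsProper π] (Z : P.Modules) [Z.IsQuasicoherent] :
    Nonempty ((Scheme.Modules.pullback c.k).obj ((Scheme.Modules.pushforward π).obj Z) ≅
      (Scheme.Modules.pushforward (KRR.pr r c.T)).obj ((Scheme.Modules.pullback c.J).obj Z)) := by
  haveI := CohDelta.BC.Flat.isIso_bc0 π c.k c.J (KRR.pr r c.T) c.sq Z
  exact ⟨asIso (CohBC.bc0 π c.k (KRR.pr r c.T) c.J c.sq.w Z)⟩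

variable (π) in
/-- The successive twisted kernels. -/
def iter (O1 F : P.Modules) : ℕ → P.Modules
  | 0 => F
  | i + 1 => CohB1.tensorMod (kernel (counitP π (iter O1 F i))) O1

/-- The twisted kernels restrict to the twisted kernels. -/
theorem nonempty_iterIso [IsProper π] {F : P.Modules} :
    ∀ i, (∀ j, j < i → (iter π O1 F j).IsQuasicoherent) → Nonempty ((Scheme.Modules.pullback c.J).obj (iter π O1 F i) ≅
      H70.KRRReg.Resolution.iter ((Scheme.Modules.pullback c.J).obj F) i)
  | 0, _ => ⟨Iso.refl _⟩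
  | i + 1, hq => by
    obtain ⟨e⟩ := nonempty_iterIso i fun j hj => hq j (hj.trans (Nat.lt_succ_self i))
    haveI := hq i (Nat.lt_succ_self i)
    obtain ⟨a⟩ := nonempty_arrowIso c (iter π O1 F i)
    obtain ⟨o⟩ := c.iso
    haveI := preservesLimits_J c
    let G := Scheme.Modules.pullback (KRR.pr r c.T)
    let H := Scheme.Modules.pushforward (KRR.pr r c.T)
    let b : Arrow.mk (cu c ((Scheme.Modules.pullback c.J).obj (iter π O1 F i))) ≅
        Arrow.mk (cu c (H70.KRRReg.Resolution.iter ((Scheme.Modules.pullback c.J).obj F) i)) :=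
      Arrow.isoMk (G.mapIso (H.mapIso e)) e
        ((Scheme.Modules.pullbackPushforwardAdjunction (KRR.pr r c.T)).counit.naturality e.hom)
    let ab := a ≪≫ b
    let κ := kernel.mapIso _ _ (Arrow.leftFunc.mapIso ab) (Arrow.rightFunc.mapIso ab)
      ab.hom.w.symm
    exact ⟨TensorMod.Pullback.pullbackTensorIso c.J _ _ ≪≫
      tensorIso (PreservesKernel.iso (Scheme.Modules.pullback c.J) _ ≪≫ κ) o ≪≫
      (H73.RegSeq.twFIso 1 _).symm⟩

/-- Vanishing is local. -/
theorem isZero_of_charts {t : Finset X} {c : X → Ch π O1 r}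
    (hc : ∀ x : X, ∃ y ∈ t, x ∈ Set.range (c y).k) {M : P.Modules} [M.IsQuasicoherent]
    (h : ∀ y ∈ t, IsZero ((Scheme.Modules.pullback (c y).J).obj M)) : IsZero M := by
  refine Modules.AffineSections.isZero_of_sections fun p => ?_
  obtain ⟨y, hy, a, ha⟩ := hc (π p)
  obtain ⟨b, hb, -⟩ : ∃ b, (c y).J b = p ∧ (KRR.pr r (c y).T) b = a := by
    obtain ⟨b, hb1, hb2⟩ := Scheme.Pullback.exists_preimage_pullback (f := π) (g := (c y).k) p a ha.symm
    exact ⟨(c y).sq.isoPullback.inv b, by
      rw [← Scheme.Hom.comp_apply, (c y).sq.isoPullback_inv_fst]; exact hb1, by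
      rw [← Scheme.Hom.comp_apply, (c y).sq.isoPullback_inv_snd]; exact hb2⟩
  obtain ⟨V, hV, hpV, hle⟩ := exists_isAffineOpen_mem_and_subset (X := P) (x := p)
    (U := (c y).J.opensRange) ⟨b, hb⟩
  refine ⟨V, hV, hpV, ?_⟩
  have hz : IsZero (M.restrict (c y).J) :=
    (h y hy).of_iso ((Scheme.Modules.restrictFunctorIsoPullback _).app M)
  have hs : Subsingleton Γ(M, (c y).J ''ᵁ ((c y).J ⁻¹ᵁ V)) :=
    Modules.AffineSections.subsingleton_sections hz ((c y).J ⁻¹ᵁ V)
  have hinf : (c y).J.opensRange ⊓ V = V := inf_eq_right.2 (fun z hz => hle hz)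
  rwa [Scheme.Hom.image_preimage_eq_opensRange_inf, hinf] at hs

/-- Being a bundle is local. -/
theorem isFinLocFree_of_charts {t : Finset X} {c : X → Ch π O1 r}
    (hc : ∀ x : X, ∃ y ∈ t, x ∈ Set.range (c y).k) {M : X.Modules}
    (h : ∀ y ∈ t, FlatMod.IsFinLocFree ((Scheme.Modules.pullback (c y).k).obj M)) :
    FlatMod.IsFinLocFree M := by
  refine TensorMod.TensorInv.isFinLocFree_of_locally fun x => ?_
  obtain ⟨y, hy, hx⟩ := hc x
  let e := IsOpenImmersion.isoOfRangeEq (c y).k (c y).k.opensRange.ι (by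
    rw [Scheme.Opens.range_ι, Scheme.Hom.coe_opensRange])
  refine ⟨(c y).k.opensRange, hx, TensorMod.LocFree.of_iso ?_
    (TensorMod.LocFree.isFinLocFree_pullback e.inv (h y hy))⟩
  exact (Scheme.Modules.pullbackComp e.inv (c y).k).app M ≪≫
    (Scheme.Modules.pullbackCongr (IsOpenImmersion.isoOfRangeEq_inv_fac _ _ _)).app M ≪≫
    ((Scheme.Modules.restrictFunctorIsoPullback _).app M).symm

end Groth.Agent.Lib.ExchangeFP29.PBK.Charts
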