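import Groth.Agent.Lib.ExchangeFP29.PBK.Koszul
import Groth.Agent.Lib.KVec.Pull
import Groth.Agent.Lib.Cyc.CH.BdlExists
import Groth.Agent.S5670

/-!
# The splitting principle for `K` of vector bundles
-/

set_option autoImplicit false
set_option linter.style.haveILetI false
set_option linter.unusedSectionVars false
universe u v w

open CategoryTheory CategoryTheory.Limits AlgebraicGeometry TopologicalSpace

noncomputable section

namespace Groth.Agent.Lib.ExchangeFP29.PBK.Split

open Groth.Agent Groth.Agent.Lib TensorMod.Basic Groth.Agent.Lib.ExchangeFP29.PBK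

attribute [local instance] HasDerivedCategory.standard

theorem hom_ext_cl {Z : Scheme.{u}} {K : Type v} {M : Type w} [AddCommGroup K] [AddCommGroup M]
    {φ : SGA6.Kvb Z →+ K} (hφ : Function.Surjective φ) {a b : K →+ M}
    (h : ∀ E, FlatMod.IsFinLocFree E → a (φ (KRR.cl Z E)) = b (φ (KRR.cl Z E))) : a = b := by
  have key : a.comp φ = b.comp φ := KRes.KSub.hom_ext fun E hE => h E hE
  ext x
  obtain ⟨z, rfl⟩ := hφ x
  exact DFunLike.congr_fun key z

theorem isLambdaHom_of_pos {A : Type v} {B : Type w} [CommRing A] [CommRing B] [LambdaRing.LambdaOps A]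
    [LambdaRing.LambdaOps B] (P : LambdaRing.PosStructure A) (f : A →+* B)
    (h : ∀ e ∈ P.pos, ∀ i, f (LambdaRing.LambdaOps.lam i e) = LambdaRing.LambdaOps.lam i (f e)) :
    ∀ (i : ℕ) (x : A), f (LambdaRing.LambdaOps.lam i x) = LambdaRing.LambdaOps.lam i (f x) := by
  intro i
  induction i using Nat.strong_induction_on with
  | _ i ih =>
    intro x
    obtain ⟨e, g, he, hg, rfl⟩ := P.exists_sub x
    rcases i with _ | i
    · rw [LambdaRing.LambdaOps.lam_zero, LambdaRing.LambdaOps.lam_zero, map_one]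
    have hA := LambdaRing.LambdaOps.lam_add (i + 1) (e - g) g
    rw [sub_add_cancel, Finset.sum_range_succ, Nat.sub_self, LambdaRing.LambdaOps.lam_zero, mul_one]
      at hA
    have hB := LambdaRing.LambdaOps.lam_add (i + 1) (f (e - g)) (f g)
    rw [← map_add, sub_add_cancel, Finset.sum_range_succ, Nat.sub_self,
      LambdaRing.LambdaOps.lam_zero, mul_one] at hB
    rw [eq_sub_of_add_eq' hA.symm, eq_sub_of_add_eq' hB.symm, map_sub, map_sum, h e he]
    refine congrArg₂ (· - ·) rfl (Finset.sum_congr rfl fun j hj => ?_)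
    rw [map_mul, ih j (Finset.mem_range.1 hj), h g hg]

section PullHom

variable {X Z : Scheme.{u}} (f : Z ⟶ X)
  {K : Type v} [CommRing K] [LambdaRing.LambdaOps K] {PX : LambdaRing.PosStructure K}
  {φ : SGA6.Kvb X →+ K} (hK : KRR.IsModel X K PX φ)
  {K' : Type w} [CommRing K'] [LambdaRing.LambdaOps K'] {P' : LambdaRing.PosStructure K'}
  {φ' : SGA6.Kvb Z →+ K'} (hK' : KRR.IsModel Z K' P' φ')

include hK hK' in
/-- The pull-back as a homomorphism of λ-rings. -/
theorem exists_pullHom [ConnectedSpace ↥X] : ∃ h : K →+* K', KRR.IsPull f φ φ' h.toAddMonoidHom ∧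
    (∀ (i : ℕ) (x : K), h (LambdaRing.LambdaOps.lam i x) = LambdaRing.LambdaOps.lam i (h x)) ∧ (∀ x, P'.aug (h x) = PX.aug x) ∧ ∀ e ∈ PX.pos, h e ∈ P'.pos := by
  obtain ⟨pb, hpb⟩ := KVec.Pull.exists_pull f
  let h₀ : K →+ K' := (φ'.comp pb).comp (AddEquiv.ofBijective φ hK.bijective).symm.toAddMonoidHom
  have hh : ∀ E, FlatMod.IsFinLocFree E →
      h₀ (φ (KRR.cl X E)) = φ' (KRR.cl Z ((Scheme.Modules.pullback f).obj E)) := fun E hE =>
    (congrArg (fun z => φ' (pb z))
      ((AddEquiv.ofBijective φ hK.bijective).symm_apply_apply _)).trans (congrArg φ' (hpb E hE))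
  have h1 : h₀ 1 = 1 := by
    rw [← hK.map_one, hh _ ExtFilt.Lambda.isFinLocFree_structure, ← hK'.map_one]
    exact congrArg φ' (KAugNil98.Main.cl_iso (PicLoc.pullbackStructureIso f)
      (TensorMod.LocFree.isFinLocFree_pullback _ ExtFilt.Lambda.isFinLocFree_structure))
  have hmulE : ∀ E, FlatMod.IsFinLocFree E → ∀ y,
      h₀ (φ (KRR.cl X E) * y) = h₀ (φ (KRR.cl X E)) * h₀ y := by
    intro E hE
    refine DFunLike.congr_fun (hom_ext_cl hK.bijective.2
      (a := h₀.comp (AddMonoidHom.mulLeft (φ (KRR.cl X E))))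
      (b := (AddMonoidHom.mulLeft (h₀ (φ (KRR.cl X E)))).comp h₀) fun F hF => ?_)
    show h₀ (φ _ * φ _) = h₀ (φ _) * h₀ (φ _)
    rw [hK.map_mul E F hE hF, hh E hE, hh F hF,
      hK'.map_mul _ _ (TensorMod.LocFree.isFinLocFree_pullback _ hE)
        (TensorMod.LocFree.isFinLocFree_pullback _ hF)]
    have hEF := TensorMod.LocFree.isFinLocFree_tensorMod hE hF
    exact (hh _ hEF).trans (congrArg φ' (KAugNil98.Main.cl_iso
      (TensorMod.Pullback.pullbackTensorIso f E F)
      (TensorMod.LocFree.isFinLocFree_pullback _ hEF)))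
  have hm : ∀ x y, h₀ (x * y) = h₀ x * h₀ y := fun x y =>
    DFunLike.congr_fun (hom_ext_cl hK.bijective.2
      (a := h₀.comp (AddMonoidHom.mulRight y)) (b := (AddMonoidHom.mulRight (h₀ y)).comp h₀)
      fun E hE => hmulE E hE y) x
  let h : K →+* K' := { toFun := h₀, map_one' := h1, map_mul' := hm, map_zero' := map_zero h₀,
                        map_add' := map_add h₀ }
  refine ⟨h, hh, isLambdaHom_of_pos PX h fun e he i => ?_, fun x => ?_, fun e he => ?_⟩
  · obtain ⟨k, E, -, hEr, rfl⟩ := (hK.mem_pos_iff e).1 he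
    have hE := TensorMod.LocFree.of_rank hEr
    obtain ⟨L, hLB, hL⟩ := Koszul.exists_extPow hE i
    have hE' := TensorMod.LocFree.isFinLocFree_pullback f hE
    obtain ⟨N, hNB, hN⟩ := Koszul.exists_extPow hE' i
    obtain ⟨e₁⟩ := KVec.ExtPowPull.nonempty_iso_pullback f hE hL hN
    show h₀ (LambdaRing.LambdaOps.lam i (φ (KRR.cl X E))) = LambdaRing.LambdaOps.lam i (h₀ (φ _))
    rw [hK.map_lam i E L hE hLB hL, hh L hLB, hh E hE, hK'.map_lam i _ N hE' hNB hN]
    exact congrArg φ' (KAugNil98.Main.cl_iso e₁ (TensorMod.LocFree.isFinLocFree_pullback _ hLB))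
  · refine DFunLike.congr_fun (hom_ext_cl hK.bijective.2
      (a := P'.aug.toAddMonoidHom.comp h₀) (b := PX.aug.toAddMonoidHom) fun E hE => ?_) x
    obtain ⟨x₀⟩ : Nonempty ↥X := inferInstance
    have hr := KVec.Model.rank_of_isFinLocFree hE x₀
    show P'.aug (h₀ (φ _)) = PX.aug (φ _)
    rw [hh E hE, hK.aug_cl _ E hr, hK'.aug_cl _ _ (TensorMod.LocFree.rank_pullback _ hr)]
  · obtain ⟨k, E, hk, hEr, rfl⟩ := (hK.mem_pos_iff e).1 he
    exact (hK'.mem_pos_iff _).2 ⟨k, _, hk, TensorMod.LocFree.rank_pullback f hEr,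
      (hh E (TensorMod.LocFree.of_rank hEr)).symm⟩

end PullHom

section Injective

variable {X P : Scheme.{u}} {π : P ⟶ X} {E : X.Modules} {O1 : P.Modules}
  {q : (Scheme.Modules.pullback π).obj E ⟶ O1} {r : ℕ}
  (hP : KRR.IsProjBundle π E O1 q) (hE : FlatMod.IsFinLocFreeOfRank (r + 1) E)
  {K : Type v} [CommRing K] [LambdaRing.LambdaOps K] {PX : LambdaRing.PosStructure K}
  {φ : SGA6.Kvb X →+ K} (hK : KRR.IsModel X K PX φ)

variable (K) in
/-- Sequences vanishing far out. -/
def farZero : AddSubgroup (ℕ → K) where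
  carrier := {f | ∃ N, ∀ m, N ≤ m → f m = 0}
  zero_mem' := ⟨0, fun _ _ => rfl⟩
  add_mem' := fun {a b} ⟨N, hN⟩ ⟨M, hM⟩ => ⟨max N M, fun m hm => by
    rw [Pi.add_apply, hN m (le_of_max_le_left hm), hM m (le_of_max_le_right hm), add_zero]⟩
  neg_mem' := fun {a} ⟨N, hN⟩ => ⟨N, fun m hm => by rw [Pi.neg_apply, hN m hm, neg_zero]⟩

include hP hE hK in
/-- The pull-back to a projective bundle is injective. -/
theorem pull_injective [IsNoetherian X] [IsProper π] {pb : SGA6.Kvb X →+ SGA6.Kvb P}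
    (hpb : ∀ G, FlatMod.IsFinLocFree G → pb (KRR.cl X G) = KRR.cl P ((Scheme.Modules.pullback π).obj G))
    {y : SGA6.Kvb X} (hy : pb y = 0) : y = 0 := by
  let seqOf : P.Modules → ℕ → K := fun F m =>
    φ (KRR.cl X ((Scheme.Modules.pushforward π).obj (CohB1.tensorMod F (CohB1.tensorPow O1 m))))
  let mk := QuotientAddGroup.mk' (farZero K)
  let germ : SGA6.Kvb P →+ (ℕ → K) ⧸ farZero K := KRes.KSub.lift (fun F => mk (seqOf F))
    fun S hS h1 h2 h3 => by
      obtain ⟨a, ha⟩ := Good.eventually_good hP hE h1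
      obtain ⟨b, hb⟩ := Good.eventually_good hP hE h2
      obtain ⟨c, hc⟩ := Good.eventually_good hP hE h3
      rw [← map_add]
      refine (QuotientAddGroup.eq_iff_sub_mem).2 ⟨max a (max b c), fun m hm => ?_⟩
      rw [Pi.sub_apply, Pi.add_apply, sub_eq_zero]
      have hS' := Cyc.CH.shortExact_tensor_right (TensorMod.FPConv.isFlat_of_isFinLocFree
        (TensorMod.LocFree.of_rank (TensorMod.LocFree.of_isInvertible
          (TensorMod.Invertible.isInvertible_tensorPow (PBK.isInvertible hP) m)))) hS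
      have hS'' := shortExact_push hS' (ha m (by omega)).2
      exact (congrArg φ (KAugNil98.Main.clSub_shortExact hS'' (ha m (by omega)).1
        (hb m (by omega)).1 (hc m (by omega)).1)).trans (map_add φ _ _)
  let e : ℕ → K := Koszul.pushPow π O1 φ
  let ml : K →+ (ℕ → K) :=
    { toFun := fun a m => a * e m
      map_zero' := funext fun m => zero_mul _
      map_add' := fun a b => funext fun m => add_mul _ _ _ }
  have key : germ.comp pb = (mk.comp ml).comp φ := KRes.KSub.hom_ext fun G hG => by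
    show germ (pb _) = mk (ml (φ _))
    rw [hpb G hG]
    refine (KRes.KSub.lift_cl _ _ (TensorMod.LocFree.isFinLocFree_pullback π hG)).trans
      (congrArg mk (funext fun m => ?_))
    obtain ⟨p⟩ := nonempty_proj (π := π) (CohB1.tensorPow O1 m) hG
    have hfl := TensorMod.LocFree.isFinLocFree_tensorMod hG (Koszul.isFinLocFree_push_pow hP hE m)
    show φ (KRR.cl X _) = φ (KRR.cl X G) * φ (KRR.cl X _)
    rw [hK.map_mul _ _ hG (Koszul.isFinLocFree_push_pow hP hE m)]
    exact congrArg φ (KAugNil98.Main.cl_iso p (TensorMod.LocFree.of_iso p.symm hfl))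
  have h0 : mk (ml (φ y)) = 0 := by
    have := DFunLike.congr_fun key y
    rw [AddMonoidHom.comp_apply, hy, map_zero] at this
    exact this.symm
  obtain ⟨N, hN⟩ := (QuotientAddGroup.eq_zero_iff _).1 h0
  have hunit : IsUnit (LambdaRing.LambdaOps.lam (r + 1) (φ (KRR.cl X E))) := by
    have h := PX.isUnit_lam _ ((hK.mem_pos_iff _).2 ⟨r + 1, E, Nat.le_add_left 1 r, hE, rfl⟩)
    rwa [hK.aug_cl (r + 1) E hE, Int.toNat_natCast] at h
  have hall : ∀ d m, N ≤ m + d → φ y * e m = 0 := by
    intro d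
    induction d with
    | zero => exact fun m hm => hN m (by omega)
    | succ d ih =>
      intro m hm
      have h := congrArg (φ y * ·) (Koszul.recursion hP hE (Koszul.IsLam.of_model hK) m)
      simp only [mul_zero, Finset.mul_sum] at h
      rw [Finset.sum_range_succ, Finset.sum_eq_zero, zero_add, Nat.add_sub_cancel] at h
      · have h2 : LambdaRing.LambdaOps.lam (r + 1) (φ (KRR.cl X E)) * (φ y * e m) = 0 := by
          have h3 := congrArg ((-1 : K) ^ (r + 1) * ·) h
          simp only [mul_zero] at h3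
          rw [← h3, show (-1 : K) ^ (r + 1) * (φ y * ((-1) ^ (r + 1) *
            LambdaRing.LambdaOps.lam (r + 1) (φ (KRR.cl X E)) * Koszul.pushPow π O1 φ m)) =
            ((-1 : K) ^ (r + 1) * (-1) ^ (r + 1)) *
              (LambdaRing.LambdaOps.lam (r + 1) (φ (KRR.cl X E)) * (φ y * e m)) by ring,
            ← mul_pow, neg_one_mul, neg_neg, one_pow, one_mul]
        exact hunit.mul_right_eq_zero.1 h2
      · intro i hi
        rw [Finset.mem_range] at hi
        rw [show φ y * ((-1 : K) ^ i * LambdaRing.LambdaOps.lam i (φ (KRR.cl X E)) *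
          Koszul.pushPow π O1 φ (m + (r + 1) - i)) =
          (-1 : K) ^ i * LambdaRing.LambdaOps.lam i (φ (KRR.cl X E)) *
            (φ y * e (m + (r + 1) - i)) by ring, ih _ (by omega), mul_zero]
  have he0 : e 0 = 1 := by
    haveI := isIso_unitHom hP hE
    rw [← hK.map_one]
    exact (congrArg φ (KAugNil98.Main.cl_iso (asIso (unitHom π))
      ExtFilt.Lambda.isFinLocFree_structure)).symm
  have := hall N 0 (by omega)
  rw [he0, mul_one, ← map_zero φ] at this
  exact hK.bijective.1 this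

include hP hE in
/-- A projective bundle over a connected scheme is connected. -/
theorem connectedSpace [IsNoetherian X] [ConnectedSpace ↥X] [IsProper π] : ConnectedSpace ↥P := by
  haveI : IsLocallyNoetherian P := LocallyOfFiniteType.isLocallyNoetherian π
  haveI : CompactSpace P := QuasiCompact.compactSpace_of_compactSpace π
  haveI : AlgebraicGeometry.IsNoetherian P := ⟨⟩
  haveI := isIso_unitHom hP hE
  have hb : ∀ U : X.Opens, Function.Bijective (π.app U) := fun U =>
    ConcreteCategory.bijective_of_isIso ((unitHom π).app U)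
  haveI := S5670.result π hb (𝟙 X)
  exact (Scheme.homeoOfIso (asIso (pullback.fst π (𝟙 X)))).surjective.connectedSpace
    (Scheme.homeoOfIso (asIso (pullback.fst π (𝟙 X)))).continuous

end Injective

/-- One step of the splitting. -/
theorem exists_step {X : Scheme.{u}} [IsNoetherian X] [ConnectedSpace ↥X]
    {K : Type (u + 1)} [CommRing K] [LambdaRing.LambdaOps K] {PX : LambdaRing.PosStructure K}
    {φ : SGA6.Kvb X →+ K} (hK : KRR.IsModel X K PX φ) {E : X.Modules} {r : ℕ}
    (hE : FlatMod.IsFinLocFreeOfRank (r + 1) E) (hr : 1 ≤ r) :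
    ∃ (P : Scheme.{u}) (_ : IsNoetherian P) (_ : ConnectedSpace ↥P) (K' : Type (u + 1))
      (_ : CommRing K') (_ : LambdaRing.LambdaOps K') (P' : LambdaRing.PosStructure K')
      (φ' : SGA6.Kvb P →+ K') (_ : KRR.IsModel P K' P' φ') (f : K →+* K'),
      LambdaRing.IsExtension PX P' f ∧ ∃ a l : K', a ∈ P'.pos ∧ P'.aug a = r ∧ P'.IsLine l ∧
        f (φ (KRR.cl X E)) = a + l := by
  obtain ⟨P, π, O1, q, hP, hπ, -⟩ := Cyc.CH.BdlExists.exists_proper E (TensorMod.LocFree.of_rank hE)
  haveI := hπ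
  haveI : IsLocallyNoetherian P := LocallyOfFiniteType.isLocallyNoetherian π
  haveI : CompactSpace P := QuasiCompact.compactSpace_of_compactSpace π
  haveI hPn : AlgebraicGeometry.IsNoetherian P := ⟨⟩
  haveI hPc := connectedSpace hP hE
  obtain ⟨K', _, _, P', φ', hK'⟩ := KVec.Model.exists_model (X := P)
  obtain ⟨f, hf, hlam, haug, hpos⟩ := exists_pullHom π hK hK'
  have hEf : FlatMod.IsFinLocFree E := TensorMod.LocFree.of_rank hE
  have hinj : Function.Injective f := by
    obtain ⟨pb, hpb⟩ := KVec.Pull.exists_pull π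
    refine (injective_iff_map_eq_zero f).2 fun a ha => ?_
    obtain ⟨y, rfl⟩ := hK.bijective.2 a
    have hc : f.toAddMonoidHom.comp φ = φ'.comp pb := KRes.KSub.hom_ext fun G hG =>
      (hf G hG).trans (congrArg φ' (hpb G hG)).symm
    have h2 : φ' (pb y) = 0 := (DFunLike.congr_fun hc y).symm.trans ha
    rw [pull_injective hP hE hK hpb (hK'.bijective.1 (h2.trans (map_zero φ').symm)), map_zero]
  refine ⟨P, hPn, hPc, K', _, _, P', φ', hK', f, ⟨hlam, hinj, haug, hpos⟩, ?_⟩
  haveI := hP.epi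
  have hE' := TensorMod.LocFree.isFinLocFree_pullback π hEf
  have hO := TensorMod.LocFree.of_rank hP.invertible
  have hQ := KAugNil98.Main.isFinLocFree_kernel q hE' hO
  let S := ShortComplex.mk (kernel.ι q) q (kernel.condition q)
  have hS : S.ShortExact :=
    ShortComplex.ShortExact.mk' (S.exact_of_f_is_kernel (kernelIsKernel q)) inferInstance inferInstance
  have hQr : FlatMod.IsFinLocFreeOfRank r (kernel q) := Koszul.of_rk hQ fun y => by
    have h := KVec.Model.rk_add hS hQ hE' hO y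
    rw [show KVec.Model.rk S.X₂ y = r + 1 from
        KVec.Model.rk_of_rank (TensorMod.LocFree.rank_pullback π hE) y,
      show KVec.Model.rk S.X₃ y = 1 from KVec.Model.rk_of_rank hP.invertible y] at h
    have h' : r + 1 = KVec.Model.rk (kernel q) y + 1 := h
    omega
  refine ⟨φ' (KRR.cl P (kernel q)), φ' (KRR.cl P O1), (hK'.mem_pos_iff _).2 ⟨r, _, hr, hQr, rfl⟩,
    hK'.aug_cl r _ hQr, ⟨(hK'.mem_pos_iff _).2 ⟨1, O1, le_rfl, hP.invertible, rfl⟩, ?_⟩, ?_⟩
  · rw [hK'.aug_cl 1 _ hP.invertible, Nat.cast_one]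
  · exact (hf E hEf).trans ((congrArg φ' (KRes.KSub.rel (P := KRR.vbP P) hS hQ hE' hO)).trans
      (map_add _ _ _))

/-- The class of models of connected Noetherian schemes. -/
def Models : Set LambdaRing.PosLambdaRing.{u + 1} :=
  {M | ∃ (Z : Scheme.{u}) (_ : IsNoetherian Z) (_ : ConnectedSpace ↥Z)
    (φ : SGA6.Kvb Z →+ M.carrier), KRR.IsModel Z M.carrier M.posStr φ}

theorem exists_split : ∀ (k : ℕ) (L : LambdaRing.PosLambdaRing.{u + 1}), L ∈ Models →
    ∀ e ∈ L.posStr.pos, L.posStr.aug e = (k + 1 : ℕ) →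
      ∃ L' ∈ Models, ∃ f : L.carrier →+* L'.carrier, LambdaRing.IsExtension L.posStr L'.posStr f ∧
        ∃ s : Multiset L'.carrier, (∀ u ∈ s, L'.posStr.IsLine u) ∧ s.sum = f e := by
  intro k
  induction k with
  | zero =>
    intro L hL e he hk
    refine ⟨L, hL, RingHom.id _, ⟨fun _ _ => rfl, fun _ _ h => h, fun _ => rfl, fun _ h => h⟩,
      {e}, fun u hu => ?_, by simp⟩
    rw [Multiset.mem_singleton.1 hu]
    exact ⟨he, by simpa using hk⟩
  | succ k ih =>
    rintro L ⟨Z, _, _, φ, hL⟩ e he hk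
    obtain ⟨n, E, hn, hEr, rfl⟩ := (hL.mem_pos_iff e).1 he
    obtain rfl : n = k + 1 + 1 := by
      have h := (hL.aug_cl n E hEr).symm.trans hk
      exact_mod_cast h
    obtain ⟨P, hPn, hPc, K', cK, oK, P', φ', hK', f, hf, a, l, ha, haug, hl, hsum⟩ :=
      exists_step hL hEr (Nat.le_add_left 1 k)
    obtain ⟨L', hL', g, hg, s, hs, hss⟩ :=
      ih { carrier := K', posStr := P' } ⟨P, hPn, hPc, φ', hK'⟩ a ha haug
    refine ⟨L', hL', g.comp f, ⟨fun i x => (congrArg g (hf.isLambdaHom i x)).trans (hg.isLambdaHom i _),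
      hg.injective.comp hf.injective, fun x => (hg.aug_comp _).trans (hf.aug_comp x),
      fun x hx => hg.pos_subset _ (hf.pos_subset x hx)⟩, g l ::ₘ s, fun u hu => ?_, ?_⟩
    · rcases Multiset.mem_cons.1 hu with rfl | h
      · exact ⟨hg.pos_subset _ hl.1, (hg.aug_comp l).trans hl.2⟩
      · exact hs u h
    · rw [Multiset.sum_cons, hss, add_comm, ← map_add, RingHom.comp_apply]
      exact congrArg g hsum.symm

/-- `K(X)` has the splitting property. -/
theorem hasSplitting {X : Scheme.{u}} [IsNoetherian X] [ConnectedSpace ↥X]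
    {K : Type (u + 1)} [CommRing K] [LambdaRing.LambdaOps K] {PX : LambdaRing.PosStructure K}
    {φ : SGA6.Kvb X →+ K} (hK : KRR.IsModel X K PX φ) : LambdaRing.HasSplitting K PX := by
  refine ⟨Models, ⟨X, ‹_›, ‹_›, φ, hK⟩, fun L hL e he => ?_⟩
  obtain ⟨k, hk⟩ : ∃ k : ℕ, L.posStr.aug e = (k + 1 : ℕ) :=
    ⟨(L.posStr.aug e).toNat - 1, by have := L.posStr.aug_pos e he; omega⟩
  exact exists_split k L hL e he hk

end Groth.Agent.Lib.ExchangeFP29.PBK.Split
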