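import Groth.Agent.Lib.ExchangeFP29.PBK.Basis
import Groth.Agent.Lib.ExchangeFP29.PBK.Split
import Groth.Agent.Lib.KVec.DualPull
import Groth.Agent.Lib.Cyc.CH.DualMap
import Groth.Agent.Lib.RefHull.DualComp
import Groth.Agent.H78.Faithful.HomLocFree

/-!
# `λ^i [E^∨] · λ^r [E] = λ^(r-i) [E]`
-/

set_option autoImplicit false
set_option linter.style.haveILetI false
set_option linter.unusedSectionVars false
universe u v

open CategoryTheory CategoryTheory.Limits AlgebraicGeometry TopologicalSpace

noncomputable section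

namespace Groth.Agent.Lib.ExchangeFP29.PBK.Dual

open Groth.Agent Groth.Agent.Lib TensorMod.Basic Groth.Agent.Lib.ExchangeFP29.PBK

attribute [local instance] HasDerivedCategory.standard

variable {X : Scheme.{u}}

theorem isFinLocFree_dual [IsLocallyNoetherian X] {E : X.Modules} (hE : FlatMod.IsFinLocFree E) :
    FlatMod.IsFinLocFree (RefHull.dual E) :=
  H78.Faithful.HomLocFree.isFinLocFree_homSh hE ExtFilt.Lambda.isFinLocFree_structure

theorem lam_line {K : Type v} [CommRing K] [LambdaRing.LambdaOps K] {P : LambdaRing.PosStructure K}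
    {φ : SGA6.Kvb X →+ K} (hK : KRR.IsModel X K P φ) {L : X.Modules}
    (hL : FlatMod.IsFinLocFreeOfRank 1 L) (i : ℕ) (hi : 1 < i) :
    LambdaRing.LambdaOps.lam i (φ (KRR.cl X L)) = 0 := by
  refine P.lam_eq_zero _ ((hK.mem_pos_iff _).2 ⟨1, L, le_rfl, hL, rfl⟩) i ?_
  rw [hK.aug_cl 1 L hL]
  exact_mod_cast hi

theorem lam_succ_add {K : Type v} [CommRing K] [LambdaRing.LambdaOps K] {v : K}
    (hv : ∀ i, 1 < i → LambdaRing.LambdaOps.lam i v = 0) (e : K) (i : ℕ) :
    LambdaRing.LambdaOps.lam (i + 1) (e + v) =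
      LambdaRing.LambdaOps.lam (i + 1) e + v * LambdaRing.LambdaOps.lam i e := by
  rw [LambdaRing.LambdaOps.lam_add, Finset.sum_range_succ, Finset.sum_range_succ,
    Finset.sum_eq_zero fun j hj => ?_]
  · rw [show i + 1 - i = 1 by omega, Nat.sub_self, LambdaRing.LambdaOps.lam_zero,
      LambdaRing.LambdaOps.lam_one]
    ring
  · rw [hv _ (by have := Finset.mem_range.1 hj; omega), mul_zero]

/-- The dual has the same rank and the complementary exterior powers. -/
theorem main : ∀ (n : ℕ), 1 ≤ n → ∀ {X : Scheme.{u}} [IsNoetherian X] [ConnectedSpace ↥X]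
    {K : Type (u + 1)} [CommRing K] [LambdaRing.LambdaOps K] {P : LambdaRing.PosStructure K}
    {φ : SGA6.Kvb X →+ K}, KRR.IsModel X K P φ → ∀ E : X.Modules, FlatMod.IsFinLocFreeOfRank n E →
    FlatMod.IsFinLocFreeOfRank n (RefHull.dual E) ∧ ∀ i, i ≤ n →
      LambdaRing.LambdaOps.lam i (φ (KRR.cl X (RefHull.dual E))) *
        LambdaRing.LambdaOps.lam n (φ (KRR.cl X E)) =
      LambdaRing.LambdaOps.lam (n - i) (φ (KRR.cl X E)) := by
  intro n hn
  induction n, hn using Nat.le_induction with
  | base =>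
    intro X _ _ K _ _ P φ hK E hE
    have hEi := TensorMod.LocFree.isInvertible_of_rank_one hE
    have hD : FlatMod.IsFinLocFreeOfRank 1 (RefHull.dual E) :=
      TensorMod.LocFree.of_isInvertible (Cyc.CH.isInvertible_dual hEi)
    refine ⟨hD, fun i hi => ?_⟩
    rcases i with _ | _ | i
    · rw [LambdaRing.LambdaOps.lam_zero, one_mul]
    · rw [Nat.sub_self, LambdaRing.LambdaOps.lam_zero, LambdaRing.LambdaOps.lam_one,
        LambdaRing.LambdaOps.lam_one, hK.map_mul _ _ (TensorMod.LocFree.of_rank hD)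
          (TensorMod.LocFree.of_rank hE), ← hK.map_one]
      exact congrArg φ (KAugNil98.Main.cl_iso
        (tensorIso (RefHull.DualComp.dualIso E) (Iso.refl E) ≪≫ comm _ _ ≪≫
          TensorMod.Invertible.tensorDualIso hEi)
        (TensorMod.LocFree.isFinLocFree_tensorMod (TensorMod.LocFree.of_rank hD) (TensorMod.LocFree.of_rank hE)))
    · omega
  | succ r hr ih =>
    intro X _ _ K _ _ P φ hK E hE
    have hEf : FlatMod.IsFinLocFree E := TensorMod.LocFree.of_rank hE
    obtain ⟨Z, π, O1, q, hP, hπ, -⟩ := Cyc.CH.BdlExists.exists_proper E hEf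
    haveI := hπ
    haveI : IsLocallyNoetherian Z := LocallyOfFiniteType.isLocallyNoetherian π
    haveI : CompactSpace Z := QuasiCompact.compactSpace_of_compactSpace π
    haveI hZn : AlgebraicGeometry.IsNoetherian Z := ⟨⟩
    haveI hZc := Split.connectedSpace hP hE
    obtain ⟨K', _, _, P', φ', hK'⟩ := KVec.Model.exists_model (X := Z)
    obtain ⟨g, hg, hlam, -, -⟩ := Split.exists_pullHom π hK hK'
    have hbij := Basis.comb_bijective hP hE (Koszul.IsLam.of_model hK) (Koszul.IsLam.of_model hK') g hg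
    have hinj : Function.Injective g := by
      refine (injective_iff_map_eq_zero g).2 fun b hb => ?_
      have h0 : Free.comb g r (φ' (KRR.cl Z O1)) (Pi.single 0 b) = 0 := by
        refine (Finset.sum_eq_single (0 : Fin (r + 1)) (fun j _ hj => ?_)
          (fun h => absurd (Finset.mem_univ _) h)).trans ?_
        · rw [Pi.single_eq_of_ne hj, map_zero, zero_mul]
        · rw [Pi.single_eq_same, hb, zero_mul]
      simpa using congrFun ((injective_iff_map_eq_zero _).1 hbij.1 _ h0) 0
    haveI := hP.epi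
    have hE' := TensorMod.LocFree.isFinLocFree_pullback π hEf
    have hO := TensorMod.LocFree.of_rank hP.invertible
    have hQ := KAugNil98.Main.isFinLocFree_kernel q hE' hO
    let S := ShortComplex.mk (kernel.ι q) q (kernel.condition q)
    have hS : S.ShortExact :=
      ShortComplex.ShortExact.mk' (S.exact_of_f_is_kernel (kernelIsKernel q)) inferInstance inferInstance
    have hQr : FlatMod.IsFinLocFreeOfRank r (kernel q) := Koszul.of_rk hQ fun y => by
      have h := KVec.Model.rk_add hS hQ hE' hO y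
      rw [show KVec.Model.rk S.X₂ y = r + 1 from
          KVec.Model.rk_of_rank (TensorMod.LocFree.rank_pullback π hE) y,
        show KVec.Model.rk S.X₃ y = 1 from KVec.Model.rk_of_rank hP.invertible y] at h
      have h' : r + 1 = KVec.Model.rk (kernel q) y + 1 := h
      omega
    obtain ⟨hQd, hrec⟩ := ih hK' (kernel q) hQr
    have hO1i := PBK.isInvertible hP
    have hLd : FlatMod.IsFinLocFreeOfRank 1 (RefHull.dual O1) :=
      TensorMod.LocFree.of_isInvertible (Cyc.CH.isInvertible_dual hO1i)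
    have hfree : ∀ z, Module.Free (Z.presheaf.stalk z) (O1.presheaf.stalk z) := fun z => by
      obtain ⟨k, ⟨b⟩⟩ := KVec.DualPull.exists_basis_stalk hO z
      exact Module.Free.of_basis b
    have hSd := Cyc.CH.shortExact_dual (CurveBundle.Coherent.isCoh hQ) (CurveBundle.Coherent.isCoh hE')
      (CurveBundle.Coherent.isCoh hO) (kernel.ι q) q (kernel.condition q) hS hfree
    obtain ⟨ι⟩ := KVec.DualPull.nonempty_pullback_dual_iso π hEf
    have hDf := isFinLocFree_dual hEf
    obtain ⟨x₀⟩ : Nonempty ↥X := inferInstance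
    obtain ⟨z₀⟩ : Nonempty ↥Z := inferInstance
    have hDr : FlatMod.IsFinLocFreeOfRank (r + 1) (RefHull.dual E) := by
      have h1 := KVec.Model.rank_of_isFinLocFree hDf x₀
      have h2 := KVec.Model.rk_add hSd (TensorMod.LocFree.of_rank hLd) (isFinLocFree_dual hE')
        (TensorMod.LocFree.of_rank hQd) z₀
      rw [show KVec.Model.rk (ShortComplex.mk _ _ (Cyc.CH.dualMap_comp_zero (CurveBundle.Coherent.isCoh hQ)
          (kernel.ι q) q (kernel.condition q))).X₁ z₀ = 1 from KVec.Model.rk_of_rank hLd z₀,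
        show KVec.Model.rk (ShortComplex.mk _ _ (Cyc.CH.dualMap_comp_zero (CurveBundle.Coherent.isCoh hQ)
          (kernel.ι q) q (kernel.condition q))).X₃ z₀ = r from KVec.Model.rk_of_rank hQd z₀] at h2
      have h3 : KVec.Model.rk (RefHull.dual ((Scheme.Modules.pullback π).obj E)) z₀ = 1 + r := h2
      rw [← Koszul.rk_of_iso ι (TensorMod.LocFree.isFinLocFree_pullback π hDf) z₀,
        KVec.Model.rk_of_rank (TensorMod.LocFree.rank_pullback π h1) z₀] at h3
      rwa [h3, add_comm 1 r] at h1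
    refine ⟨hDr, fun i hi => hinj ?_⟩
    set a := φ' (KRR.cl Z (kernel q))
    set a' := φ' (KRR.cl Z (RefHull.dual (kernel q)))
    set l := φ' (KRR.cl Z O1)
    set t := φ' (KRR.cl Z (RefHull.dual O1))
    have hl : ∀ i, 1 < i → LambdaRing.LambdaOps.lam i l = 0 := lam_line hK' hP.invertible
    have ht : ∀ i, 1 < i → LambdaRing.LambdaOps.lam i t = 0 := lam_line hK' hLd
    have htl : t * l = 1 := by
      rw [hK'.map_mul _ _ (TensorMod.LocFree.of_rank hLd) hO, ← hK'.map_one]
      exact congrArg φ' (KAugNil98.Main.cl_iso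
        (tensorIso (RefHull.DualComp.dualIso O1) (Iso.refl O1) ≪≫ comm _ _ ≪≫
          TensorMod.Invertible.tensorDualIso hO1i)
        (TensorMod.LocFree.isFinLocFree_tensorMod (TensorMod.LocFree.of_rank hLd) hO))
    have he : g (φ (KRR.cl X E)) = a + l :=
      (hg E hEf).trans ((congrArg φ' (KRes.KSub.rel (P := KRR.vbP Z) hS hQ hE' hO)).trans (map_add φ' _ _))
    have hf : g (φ (KRR.cl X (RefHull.dual E))) = a' + t := by
      refine (hg _ hDf).trans (((congrArg φ' (KAugNil98.Main.cl_iso ι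
        (TensorMod.LocFree.isFinLocFree_pullback π hDf))).trans (congrArg φ'
          (KAugNil98.Main.clSub_shortExact hSd (TensorMod.LocFree.of_rank hLd) (isFinLocFree_dual hE')
            (TensorMod.LocFree.of_rank hQd)))).trans ?_)
      rw [map_add, add_comm]
    have hzero : ∀ {n : ℕ} {M : Z.Modules}, FlatMod.IsFinLocFreeOfRank n M → 1 ≤ n →
        LambdaRing.LambdaOps.lam (n + 1) (φ' (KRR.cl Z M)) = 0 := fun {n M} hM hn =>
      P'.lam_eq_zero _ ((hK'.mem_pos_iff _).2 ⟨n, M, hn, hM, rfl⟩) _ (by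
        rw [hK'.aug_cl n M hM]
        exact_mod_cast Nat.lt_succ_self n)
    have hdet : LambdaRing.LambdaOps.lam (r + 1) (a + l) = l * LambdaRing.LambdaOps.lam r a := by
      rw [lam_succ_add hl, hzero hQr hr, zero_add]
    rw [map_mul, hlam, hlam, hlam, he, hf, hdet]
    rcases i with _ | i
    · rw [LambdaRing.LambdaOps.lam_zero, one_mul, Nat.sub_zero, hdet]
    rw [lam_succ_add ht, Nat.add_sub_add_right]
    rcases Nat.eq_or_lt_of_le (show i ≤ r by omega) with rfl | hlt
    · have h := hrec i le_rfl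
      rw [Nat.sub_self, LambdaRing.LambdaOps.lam_zero] at h
      rw [hzero hQd hr, zero_add, Nat.sub_self, LambdaRing.LambdaOps.lam_zero]
      linear_combination (t * l) * h + htl
    · have h1 := hrec (i + 1) (by omega)
      have h2 := hrec i (by omega)
      obtain ⟨j, hj⟩ : ∃ j, r - i = j + 1 := ⟨r - i - 1, by omega⟩
      rw [show r - (i + 1) = j by omega] at h1
      rw [hj] at h2
      rw [hj, lam_succ_add hl]
      linear_combination l * h1 + (t * l) * h2 + LambdaRing.LambdaOps.lam (j + 1) a * htl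

/-- The same for any model. -/
theorem lam_dual [IsNoetherian X] [ConnectedSpace ↥X] {K : Type v} [CommRing K] [LambdaRing.LambdaOps K]
    {P : LambdaRing.PosStructure K} {φ : SGA6.Kvb X →+ K} (hK : KRR.IsModel X K P φ) {n : ℕ} (hn : 1 ≤ n)
    {E : X.Modules} (hE : FlatMod.IsFinLocFreeOfRank n E) :
    FlatMod.IsFinLocFreeOfRank n (RefHull.dual E) ∧ ∀ i, i ≤ n →
      LambdaRing.LambdaOps.lam i (φ (KRR.cl X (RefHull.dual E))) *
        LambdaRing.LambdaOps.lam n (φ (KRR.cl X E)) =
      LambdaRing.LambdaOps.lam (n - i) (φ (KRR.cl X E)) := by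
  obtain ⟨K₀, _, _, P₀, φ₀, hK₀⟩ := KVec.Model.exists_model (X := X)
  obtain ⟨θ, hθ, hlam, -, -⟩ := Split.exists_pullHom (𝟙 X) hK hK₀
  have h : θ.toAddMonoidHom.comp φ = φ₀ := KRes.KSub.hom_ext fun G hG =>
    (hθ G hG).trans (congrArg φ₀ (KAugNil98.Main.cl_iso ((Scheme.Modules.pullbackId X).app G)
      (TensorMod.LocFree.isFinLocFree_pullback _ hG)))
  have hinj : Function.Injective θ := by
    refine (injective_iff_map_eq_zero θ).2 fun a ha => ?_
    obtain ⟨z, rfl⟩ := hK.bijective.2 a
    have hz : φ₀ z = 0 := (DFunLike.congr_fun h z).symm.trans ha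
    rw [hK₀.bijective.1 (hz.trans (map_zero φ₀).symm), map_zero]
  have h' : ∀ z, θ (φ z) = φ₀ z := fun z => DFunLike.congr_fun h z
  obtain ⟨h1, h2⟩ := main n hn hK₀ E hE
  refine ⟨h1, fun i hi => hinj ?_⟩
  rw [map_mul, hlam, hlam, hlam, h', h']
  exact h2 i hi

end Groth.Agent.Lib.ExchangeFP29.PBK.Dual
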