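import Groth.Agent.Lib.ExchangeFP29.PBK.Charts
import Groth.Agent.Lib.ExchangeFP29.PBK.Split

/-!
# `K(P(E))` is generated by `K(X)` and the powers of `[O(1)]`
-/

set_option autoImplicit false
set_option linter.style.haveILetI false
set_option linter.unusedSectionVars false
universe u v

open CategoryTheory CategoryTheory.Limits AlgebraicGeometry TopologicalSpace

noncomputable section

namespace Groth.Agent.Lib.ExchangeFP29.PBK.Gen

open Groth.Agent Groth.Agent.Lib TensorMod.Basic Groth.Agent.Lib.ExchangeFP29.PBK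
open Groth.Agent.Lib.ExchangeFP29.KPush

attribute [local instance] HasDerivedCategory.standard

variable {X P : Scheme.{u}} {π : P ⟶ X} {E : X.Modules} {O1 : P.Modules}
  {q : (Scheme.Modules.pullback π).obj E ⟶ O1} {r : ℕ}
  (hP : KRR.IsProjBundle π E O1 q) (hE : FlatMod.IsFinLocFreeOfRank (r + 1) E)

/-- A bundle on `P`, regular in every chart. -/
def RegIn {t : Finset X} (c : X → Charts.Ch π O1 r) (F : P.Modules) : Prop :=
  FlatMod.IsFinLocFree F ∧ ∀ y ∈ t, Reg.RB ((Scheme.Modules.pullback (c y).J).obj F)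

variable {t : Finset X} {c : X → Charts.Ch π O1 r}

include hP in
/-- The twisted kernels of a regular bundle. -/
theorem iter_good [IsProper π] (hc : ∀ x : X, ∃ y ∈ t, x ∈ Set.range (c y).k) {F : P.Modules}
    (hF : RegIn (t := t) c F) : ∀ i,
    FlatMod.IsFinLocFree (Charts.iter π O1 F i) ∧
      (∀ y ∈ t, Reg.RB ((Scheme.Modules.pullback (c y).J).obj (Charts.iter π O1 F i))) ∧
      FlatMod.IsFinLocFree ((Scheme.Modules.pushforward π).obj (Charts.iter π O1 F i)) ∧
      Epi (Charts.counitP π (Charts.iter π O1 F i)) ∧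
      FlatMod.IsFinLocFree (kernel (Charts.counitP π (Charts.iter π O1 F i))) ∧
      (r < i → IsZero (Charts.iter π O1 F i)) := by
  intro i
  induction i using Nat.strong_induction_on with
  | _ i ih =>
    have hq : ∀ j, j < i → (Charts.iter π O1 F j).IsQuasicoherent := fun j hj =>
      Modules.AffineSections.isQCoh_of_isFinLocFree (ih j hj).1
    have hB : FlatMod.IsFinLocFree (Charts.iter π O1 F i) := by
      rcases i with _ | i
      · exact hF.1
      · exact TensorMod.LocFree.isFinLocFree_tensorMod (ih i (Nat.lt_succ_self i)).2.2.2.2.1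
          (TensorMod.LocFree.of_rank hP.invertible)
    haveI : (Charts.iter π O1 F i).IsQuasicoherent := Modules.AffineSections.isQCoh_of_isFinLocFree hB
    have hR : ∀ y ∈ t, Reg.RB ((Scheme.Modules.pullback (c y).J).obj (Charts.iter π O1 F i)) := by
      intro y hy
      obtain ⟨e⟩ := Charts.nonempty_iterIso (c y) (F := F) i hq
      have hJ := hF.2 y hy
      exact ⟨TensorMod.LocFree.isFinLocFree_pullback _ hB, Reg.reg_congr e.symm
        (H70.KRRReg.Resolution.good (Reg.isQCoh_of_B hJ.1) hJ.2 i).2⟩
    have hpush : FlatMod.IsFinLocFree ((Scheme.Modules.pushforward π).obj (Charts.iter π O1 F i)) := by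
      refine Charts.isFinLocFree_of_charts hc fun y hy => ?_
      obtain ⟨e⟩ := Charts.nonempty_pushIso (c y) (Charts.iter π O1 F i)
      exact TensorMod.LocFree.of_iso e.symm (Push.isFinLocFree_push (hR y hy))
    have hpp := TensorMod.LocFree.isFinLocFree_pullback π hpush
    have hepi : Epi (Charts.counitP π (Charts.iter π O1 F i)) := by
      haveI : ((Scheme.Modules.pushforward π ⋙ Scheme.Modules.pullback π).obj
          (Charts.iter π O1 F i)).IsQuasicoherent :=
        Modules.AffineSections.isQCoh_of_isFinLocFree hpp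
      haveI : ((𝟭 P.Modules).obj (Charts.iter π O1 F i)).IsQuasicoherent :=
        Modules.AffineSections.isQCoh_of_isFinLocFree hB
      haveI := QCoh.Closure.isQCoh_cokernel (Charts.counitP π (Charts.iter π O1 F i))
      refine Preadditive.epi_of_isZero_cokernel _ (Charts.isZero_of_charts hc fun y hy => ?_)
      haveI : PreservesColimitsOfSize.{0, 0} (Scheme.Modules.pullback (c y).J) :=
        (Scheme.Modules.pullbackPushforwardAdjunction _).leftAdjoint_preservesColimits
      obtain ⟨a⟩ := Charts.nonempty_arrowIso (c y) (Charts.iter π O1 F i)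
      haveI : Epi (Charts.cu (c y) ((Scheme.Modules.pullback (c y).J).obj (Charts.iter π O1 F i))) :=
        H70.KRRReg.Counit.epi_counit (Reg.isQCoh_of_B (hR y hy).1) (hR y hy).2
      haveI : Epi ((Scheme.Modules.pullback (c y).J).map (Charts.counitP π (Charts.iter π O1 F i))) :=
        ((MorphismProperty.epimorphisms _).arrow_mk_iso_iff a).2 (show Epi _ from inferInstance)
      exact (isZero_cokernel_of_epi _).of_iso
        (PreservesCokernel.iso (Scheme.Modules.pullback (c y).J) _)
    haveI := hepi
    refine ⟨hB, hR, hpush, hepi, KAugNil98.Main.isFinLocFree_kernel _ hpp hB, fun hi => ?_⟩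
    refine Charts.isZero_of_charts hc fun y hy => ?_
    obtain ⟨e⟩ := Charts.nonempty_iterIso (c y) (F := F) i hq
    have hJ := hF.2 y hy
    exact (H70.KRRReg.Resolution.isZero_iter (Reg.isQCoh_of_B hJ.1) hJ.2 i hi).of_iso e

include hP hE in
/-- Large twists of a bundle are regular in every chart. -/
theorem exists_regIn (t : Finset X) (c : X → Charts.Ch π O1 r) {F : P.Modules}
    (hF : FlatMod.IsFinLocFree F) :
    ∃ m, RegIn (t := t) c (CohB1.tensorMod F (CohB1.tensorPow O1 m)) := by
  have h : ∀ y, ∃ k, Ext.Lev k ((Scheme.Modules.pullback (c y).J).obj F) := fun y =>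
    Ext.exists_lev _ (TensorMod.LocFree.isFinLocFree_pullback _ hF)
  choose k hk using h
  refine ⟨t.sup k, TensorMod.LocFree.isFinLocFree_tensorMod hF (TensorMod.LocFree.of_rank
    (TensorMod.LocFree.of_isInvertible (TensorMod.Invertible.isInvertible_tensorPow
      (PBK.isInvertible hP) _))), fun y hy => ?_⟩
  obtain ⟨o⟩ := (c y).iso
  obtain ⟨p⟩ := S3757.nonempty_pow_iso r (c y).T (t.sup k)
  refine Reg.RB_congr ?_ (Ext.lev_of_le (hk y) (Finset.le_sup hy)).2
  exact tensorIso (Iso.refl _) (p ≪≫ (Ample.Pow.powIso o _).symm ≪≫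
    (Ample.Pow.pullbackPow (c y).J O1 _).symm) ≪≫ (TensorMod.Pullback.pullbackTensorIso _ _ _).symm

variable {KX : Type v} [CommRing KX] [LambdaRing.LambdaOps KX]
  {φX : SGA6.Kvb X →+ KX} (hKX : Koszul.IsLam X KX φX)
  {KP : Type v} [CommRing KP] [LambdaRing.LambdaOps KP]
  {φP : SGA6.Kvb P →+ KP} (hKP : Koszul.IsLam P KP φP)
  (g : KX →+* KP) (hg : KRR.IsPull π φX φP g.toAddMonoidHom)

/-- The span of the powers of a class over the base. -/
def span (g : KX →+* KP) (l : KP) : AddSubgroup KP :=
  AddSubgroup.closure (Set.range fun p : KX × ℕ => g p.1 * l ^ p.2)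

theorem mem_span (l : KP) (a : KX) (n : ℕ) : g a * l ^ n ∈ span g l :=
  AddSubgroup.subset_closure ⟨(a, n), rfl⟩

theorem mul_mem_span (l : KP) {x y : KP} (hx : x ∈ span g l) (hy : y ∈ span g l) :
    x * y ∈ span g l := by
  induction hx using AddSubgroup.closure_induction with
  | mem x hx =>
    obtain ⟨⟨a, n⟩, rfl⟩ := hx
    induction hy using AddSubgroup.closure_induction with
    | mem y hy =>
      obtain ⟨⟨b, m⟩, rfl⟩ := hy
      rw [mul_mul_mul_comm, ← map_mul, ← pow_add]
      exact mem_span g l _ _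
    | zero => rw [mul_zero]; exact zero_mem _
    | add y z _ _ hy hz => rw [mul_add]; exact add_mem hy hz
    | neg y _ hy => rw [mul_neg]; exact neg_mem hy
  | zero => rw [zero_mul]; exact zero_mem _
  | add x z _ _ hx hz => rw [add_mul]; exact add_mem hx hz
  | neg x _ hx => rw [neg_mul]; exact neg_mem hx

theorem one_mem_span (l : KP) : (1 : KP) ∈ span g l := by
  simpa using mem_span g l 1 0

theorem pow_mem_span (l : KP) {x : KP} (hx : x ∈ span g l) : ∀ n : ℕ, x ^ n ∈ span g l
  | 0 => (pow_zero x).symm ▸ one_mem_span g l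
  | n + 1 => pow_succ x n ▸ mul_mem_span g l (pow_mem_span l hx n) hx

include hKP in
theorem map_pow_cl {F : P.Modules} (hF : FlatMod.IsFinLocFree F) {L : P.Modules}
    (hL : FlatMod.IsFinLocFree L) : ∀ m : ℕ,
    φP (KRR.cl P (CohB1.tensorMod F (CohB1.tensorPow L m))) = φP (KRR.cl P F) * φP (KRR.cl P L) ^ m ∧
      FlatMod.IsFinLocFree (CohB1.tensorPow L m)
  | 0 => by
    refine ⟨?_, ExtFilt.Lambda.isFinLocFree_structure⟩
    rw [pow_zero, mul_one]
    exact congrArg φP (KAugNil98.Main.cl_iso (rightUnit F)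
      (TensorMod.LocFree.isFinLocFree_tensorMod hF ExtFilt.Lambda.isFinLocFree_structure))
  | m + 1 => by
    obtain ⟨h, hm⟩ := map_pow_cl hF hL m
    have hm1 := TensorMod.LocFree.isFinLocFree_tensorMod hm hL
    refine ⟨?_, hm1⟩
    have hFm := TensorMod.LocFree.isFinLocFree_tensorMod hF hm
    rw [pow_succ, ← mul_assoc, ← h, hKP.map_mul _ _ hFm hL]
    exact congrArg φP (KAugNil98.Main.cl_iso (assoc F _ L).symm
      (TensorMod.LocFree.isFinLocFree_tensorMod hF hm1))

include hP hE hKP hg in
/-- The powers of `[O(1)]` generate as soon as an inverse of it is generated. -/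
theorem span_eq_top [CompactSpace X] [IsProper π] {y : KP}
    (hy : y ∈ span g (φP (KRR.cl P O1))) (hy1 : φP (KRR.cl P O1) * y = 1) :
    span g (φP (KRR.cl P O1)) = ⊤ := by
  set l := φP (KRR.cl P O1) with hl
  obtain ⟨t, c, hc⟩ := Charts.exists_charts hP hE
  have hO : FlatMod.IsFinLocFree O1 := TensorMod.LocFree.of_rank hP.invertible
  have hreg : ∀ F, RegIn (t := t) c F → φP (KRR.cl P F) ∈ span g l := by
    intro F hF
    suffices key : ∀ d i, r + 1 ≤ i + d → φP (KRR.cl P (Charts.iter π O1 F i)) ∈ span g l from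
      key (r + 1) 0 (by omega)
    intro d
    induction d with
    | zero =>
      intro i hi
      rw [KAugNil98.Main.cl_isZero ((iter_good hP hc hF i).2.2.2.2.2 (by omega)), map_zero]
      exact zero_mem _
    | succ d ih =>
      intro i hi
      obtain ⟨hB, -, hpush, hepi, hK, -⟩ := iter_good hP hc hF i
      haveI := hepi
      let S := ShortComplex.mk (kernel.ι (Charts.counitP π (Charts.iter π O1 F i))) _
        (kernel.condition _)
      have hS : S.ShortExact :=
        ShortComplex.ShortExact.mk' (S.exact_of_f_is_kernel (kernelIsKernel _)) inferInstance hepi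
      have hpp := TensorMod.LocFree.isFinLocFree_pullback π hpush
      have h1 : g (φX (KRR.cl X ((Scheme.Modules.pushforward π).obj (Charts.iter π O1 F i)))) =
          φP (KRR.cl P (kernel (Charts.counitP π (Charts.iter π O1 F i)))) +
            φP (KRR.cl P (Charts.iter π O1 F i)) :=
        (hg _ hpush).trans ((congrArg φP (KAugNil98.Main.clSub_shortExact hS hK hpp hB)).trans
          (map_add φP _ _))
      have h2 : φP (KRR.cl P (Charts.iter π O1 F (i + 1))) =
          φP (KRR.cl P (kernel (Charts.counitP π (Charts.iter π O1 F i)))) * l :=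
        (hKP.map_mul _ _ hK hO).symm
      have h3 : φP (KRR.cl P (Charts.iter π O1 F i)) =
          g (φX (KRR.cl X ((Scheme.Modules.pushforward π).obj (Charts.iter π O1 F i)))) * l ^ 0 -
            φP (KRR.cl P (Charts.iter π O1 F (i + 1))) * y := by
        rw [h1, h2, mul_assoc, hy1]
        ring
      rw [h3]
      exact sub_mem (mem_span g l _ 0) (mul_mem_span g l (ih (i + 1) (by omega)) hy)
  have hall : ∀ F, FlatMod.IsFinLocFree F → φP (KRR.cl P F) ∈ span g l := by
    intro F hF
    obtain ⟨m, hm⟩ := exists_regIn hP hE t c hF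
    have h := hreg _ hm
    rw [(map_pow_cl hKP hF hO m).1] at h
    have h' := mul_mem_span g l h (pow_mem_span g l hy m)
    rwa [mul_assoc, ← mul_pow, ← hl, hy1, one_pow, mul_one] at h'
  refine eq_top_iff.2 fun z _ => (QuotientAddGroup.eq_zero_iff z).1 ?_
  exact DFunLike.congr_fun (Split.hom_ext_cl hKP.bijective.2
    (a := QuotientAddGroup.mk' (span g l)) (b := 0) fun F hF =>
      (QuotientAddGroup.eq_zero_iff _).2 (hall F hF)) z

end Groth.Agent.Lib.ExchangeFP29.PBK.Gen
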