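import Groth.Agent.Lib.ExchangeFP29.PBK.Low
import Groth.Agent.Lib.ExchangeFP29.PBK.Gen

/-!
# `K(P(E))` is free on the powers `[O(1)]^i`, `i ≤ r`
-/

set_option autoImplicit false
set_option linter.style.haveILetI false
set_option linter.unusedSectionVars false
universe u v

open CategoryTheory CategoryTheory.Limits AlgebraicGeometry TopologicalSpace

noncomputable section

namespace Groth.Agent.Lib.ExchangeFP29.PBK.Free

open Groth.Agent Groth.Agent.Lib TensorMod.Basic Groth.Agent.Lib.ExchangeFP29.PBK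

attribute [local instance] HasDerivedCategory.standard

variable {X P : Scheme.{u}} {π : P ⟶ X} {E : X.Modules} {O1 : P.Modules}
  {q : (Scheme.Modules.pullback π).obj E ⟶ O1} {r : ℕ}
  (hP : KRR.IsProjBundle π E O1 q) (hE : FlatMod.IsFinLocFreeOfRank (r + 1) E)
  {KX : Type v} [CommRing KX] [LambdaRing.LambdaOps KX]
  {φX : SGA6.Kvb X →+ KX} (hKX : Koszul.IsLam X KX φX)
  {KP : Type v} [CommRing KP] [LambdaRing.LambdaOps KP]
  {φP : SGA6.Kvb P →+ KP} (hKP : Koszul.IsLam P KP φP)
  (g : KX →+* KP) (hg : KRR.IsPull π φX φP g.toAddMonoidHom)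

/-- `Σ_{i ≤ r} g(a_i) l^i`. -/
def comb (g : KX →+* KP) (r : ℕ) (l : KP) : (Fin (r + 1) → KX) →+ KP where
  toFun a := ∑ i : Fin (r + 1), g (a i) * l ^ (i : ℕ)
  map_zero' := by simp
  map_add' a b := by simp [add_mul, Finset.sum_add_distrib]

variable (π O1 φX) in
/-- The classes of the direct images of `O(n)`, extended by zero. -/
def ext (n : ℤ) : KX := if n < 0 then 0 else Koszul.pushPow π O1 φX n.toNat

theorem ext_nat (n : ℕ) : ext π O1 φX (n : ℤ) = Koszul.pushPow π O1 φX n := by
  rw [ext, if_neg (by omega), Int.toNat_natCast]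

include hP hE hKX in
theorem ext_recursion [CompactSpace X] [IsProper π] (s : ℤ) (hs : 1 ≤ s) :
    ∑ j ∈ Finset.range (r + 2), (-1 : KX) ^ j * LambdaRing.LambdaOps.lam j (φX (KRR.cl X E)) *
      ext π O1 φX (s - j) = 0 := by
  obtain ⟨n, rfl⟩ : ∃ n : ℕ, s = (n : ℤ) := ⟨s.toNat, by omega⟩
  have hcast : ∀ j, j ≤ n → ext π O1 φX ((n : ℤ) - j) = Koszul.pushPow π O1 φX (n - j) := fun j hj => by
    rw [← Nat.cast_sub hj, ext_nat]
  rcases le_or_gt n r with hn | hn
  · rw [← Finset.sum_subset (Finset.range_subset_range.2 (show n + 1 ≤ r + 2 by omega))]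
    · refine Eq.trans (Finset.sum_congr rfl fun j hj => ?_) (Low.recursion hP hE hKX n (by omega) hn)
      rw [hcast j (by have := Finset.mem_range.1 hj; omega)]
    · intro j _ hj
      rw [Finset.mem_range] at hj
      rw [ext, if_pos (by omega), mul_zero]
  · obtain ⟨m, rfl⟩ := Nat.exists_eq_add_of_le (show r + 1 ≤ n by omega)
    refine Eq.trans (Finset.sum_congr rfl fun j hj => ?_) (Koszul.recursion hP hE hKX m)
    rw [hcast j (by have := Finset.mem_range.1 hj; omega), Nat.add_comm (r + 1) m]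

include hP hE hKX in
theorem pushPow_zero : Koszul.pushPow π O1 φX 0 = 1 := by
  haveI := isIso_unitHom hP hE
  rw [← hKX.map_one]
  exact (congrArg φX (KAugNil98.Main.cl_iso (asIso (unitHom π))
    ExtFilt.Lambda.isFinLocFree_structure)).symm

include hP hE hKX in
/-- A combination of shifts of the `π_* O(n)` vanishing far out is trivial. -/
theorem eq_zero_of_far [CompactSpace X] [IsProper π] (a : Fin (r + 1) → KX) {N : ℕ}
    (hN : ∀ m, N ≤ m → ∑ i, a i * Koszul.pushPow π O1 φX (m + (i : ℕ)) = 0) : a = 0 := by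
  let b : ℤ → KX := fun n => ∑ i, a i * ext π O1 φX (n + (i : ℕ))
  have hrec : ∀ n : ℤ, -(r : ℤ) ≤ n → ∑ j ∈ Finset.range (r + 2),
      (-1 : KX) ^ j * LambdaRing.LambdaOps.lam j (φX (KRR.cl X E)) * b (n + (r + 1 : ℕ) - j) = 0 := by
    intro n hn
    simp only [b, Finset.mul_sum]
    rw [Finset.sum_comm]
    refine Finset.sum_eq_zero fun i _ => ?_
    rw [← mul_zero (a i), ← ext_recursion hP hE hKX (n + (r + 1 : ℕ) + (i : ℕ)) (by omega),
      Finset.mul_sum]
    refine Finset.sum_congr rfl fun j _ => ?_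
    rw [show n + ((r + 1 : ℕ) : ℤ) - (j : ℤ) + ((i : ℕ) : ℤ) = n + ((r + 1 : ℕ) : ℤ) + ((i : ℕ) : ℤ) - j by ring]
    ring
  have hb : ∀ (d : ℕ) (n : ℤ), -(r : ℤ) ≤ n → (N : ℤ) ≤ n + d → b n = 0 := by
    intro d
    induction d with
    | zero =>
      intro n _ hn
      obtain ⟨m, rfl⟩ : ∃ m : ℕ, n = (m : ℤ) := ⟨n.toNat, by omega⟩
      refine Eq.trans (Finset.sum_congr rfl fun i _ => ?_) (hN m (by omega))
      rw [← Nat.cast_add, ext_nat]
    | succ d ih =>
      intro n hn hd
      have h := hrec n hn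
      rw [Finset.sum_range_succ, Finset.sum_eq_zero, zero_add, add_sub_cancel_right] at h
      · exact (((IsUnit.neg isUnit_one).pow (r + 1)).mul (Koszul.isUnit_lam hP hE hKX)).mul_right_eq_zero.1 h
      · intro j hj
        rw [Finset.mem_range] at hj
        rw [ih _ (by omega) (by omega), mul_zero]
  have hlow : ∀ d (k : Fin (r + 1)), r + 1 ≤ (k : ℕ) + d → a k = 0 := by
    intro d
    induction d with
    | zero => exact fun k hk => absurd k.2 (by omega)
    | succ d ih =>
      intro k hk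
      have h := hb (N + r) (-((k : ℕ) : ℤ)) (by omega) (by omega)
      simp only [b] at h
      rw [Finset.sum_eq_single k] at h
      · rwa [show -((k : ℕ) : ℤ) + ((k : ℕ) : ℤ) = ((0 : ℕ) : ℤ) by simp, ext_nat,
          pushPow_zero hP hE hKX, mul_one] at h
      · intro i _ hik
        rcases Nat.lt_or_gt_of_ne (fun h' => hik (Fin.ext h')) with h' | h'
        · rw [ext, if_pos (by omega), mul_zero]
        · rw [ih i (by omega), zero_mul]
      · exact fun h' => absurd (Finset.mem_univ k) h'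
  exact funext fun k => hlow (r + 1) k (by omega)

include hP hE hKX hKP hg in
/-- The powers `l^i`, `i ≤ r`, are independent over the base. -/
theorem comb_injective [CompactSpace X] [IsProper π] :
    Function.Injective (comb g r (φP (KRR.cl P O1))) := by
  let seqOf : P.Modules → ℕ → KX := fun F m =>
    φX (KRR.cl X ((Scheme.Modules.pushforward π).obj (CohB1.tensorMod F (CohB1.tensorPow O1 m))))
  let mk := QuotientAddGroup.mk' (Split.farZero KX)
  let germ : SGA6.Kvb P →+ (ℕ → KX) ⧸ Split.farZero KX := KRes.KSub.lift (fun F => mk (seqOf F))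
    fun S hS h1 h2 h3 => by
      obtain ⟨a, ha⟩ := Good.eventually_good hP hE h1
      obtain ⟨b, hb⟩ := Good.eventually_good hP hE h2
      obtain ⟨c, hc⟩ := Good.eventually_good hP hE h3
      rw [← map_add]
      refine (QuotientAddGroup.eq_iff_sub_mem).2 ⟨max a (max b c), fun m hm => ?_⟩
      rw [Pi.sub_apply, Pi.add_apply, sub_eq_zero]
      have hS' := Cyc.CH.shortExact_tensor_right (TensorMod.FPConv.isFlat_of_isFinLocFree
        (TensorMod.LocFree.of_rank (TensorMod.LocFree.of_isInvertible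
          (TensorMod.Invertible.isInvertible_tensorPow (PBK.isInvertible hP) m)))) hS
      have hS'' := shortExact_push hS' (ha m (by omega)).2
      exact (congrArg φX (KAugNil98.Main.clSub_shortExact hS'' (ha m (by omega)).1
        (hb m (by omega)).1 (hc m (by omega)).1)).trans (map_add φX _ _)
  let ψ : KP →+ (ℕ → KX) ⧸ Split.farZero KX :=
    germ.comp (AddEquiv.ofBijective φP hKP.bijective).symm.toAddMonoidHom
  have hψ : ∀ F, FlatMod.IsFinLocFree F → ψ (φP (KRR.cl P F)) = mk (seqOf F) := fun F hF =>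
    (congrArg germ ((AddEquiv.ofBijective φP hKP.bijective).symm_apply_apply _)).trans
      (KRes.KSub.lift_cl _ _ hF)
  let e : ℕ → KX := Koszul.pushPow π O1 φX
  let l := φP (KRR.cl P O1)
  have key : ∀ (i : ℕ) (x : KX), ψ (g x * l ^ i) = mk (fun m => x * e (m + i)) := by
    intro i x
    refine DFunLike.congr_fun (Split.hom_ext_cl hKX.bijective.2
      (a := ψ.comp ((AddMonoidHom.mulRight (l ^ i)).comp g.toAddMonoidHom))
      (b := mk.comp (AddMonoidHom.mk' (fun x m => x * e (m + i)) fun x y => funext fun m =>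
        add_mul _ _ _)) fun G hG => ?_) x
    show ψ (g (φX _) * l ^ i) = mk (fun m => φX _ * e (m + i))
    have hO := TensorMod.LocFree.of_rank hP.invertible
    have hpG := TensorMod.LocFree.isFinLocFree_pullback π hG
    obtain ⟨h1, h2⟩ := Gen.map_pow_cl hKP hpG hO i
    have hg' : g (φX (KRR.cl X G)) = φP (KRR.cl P ((Scheme.Modules.pullback π).obj G)) := hg G hG
    rw [hg', ← h1, hψ _ (TensorMod.LocFree.isFinLocFree_tensorMod hpG h2)]
    refine congrArg mk (funext fun m => ?_)
    obtain ⟨p⟩ := nonempty_proj (π := π) (CohB1.tensorPow O1 (m + i)) hG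
    have hfl := TensorMod.LocFree.isFinLocFree_tensorMod hG (Koszul.isFinLocFree_push_pow hP hE (m + i))
    show φX (KRR.cl X _) = φX (KRR.cl X G) * φX (KRR.cl X _)
    rw [hKX.map_mul _ _ hG (Koszul.isFinLocFree_push_pow hP hE (m + i))]
    refine congrArg φX (KAugNil98.Main.cl_iso ?_ (TensorMod.LocFree.of_iso
      (Iso.symm ?_) hfl))
    all_goals exact (Scheme.Modules.pushforward π).mapIso (assoc _ _ _ ≪≫ tensorIso (Iso.refl _)
      ((Ample.Pow.powAdd O1 i m).symm ≪≫ eqToIso (by rw [Nat.add_comm]))) ≪≫ p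
  refine (injective_iff_map_eq_zero _).2 fun a ha => ?_
  have h0 : mk (∑ i : Fin (r + 1), fun m => a i * e (m + (i : ℕ))) = 0 := by
    rw [map_sum, ← map_zero ψ, ← ha]
    refine Eq.trans (Finset.sum_congr rfl fun i _ => (key (i : ℕ) (a i)).symm) ?_
    exact (map_sum ψ _ _).symm
  obtain ⟨N, hN⟩ := (QuotientAddGroup.eq_zero_iff _).1 h0
  refine eq_zero_of_far hP hE hKX a (N := N) fun m hm => ?_
  have := hN m hm
  rwa [Finset.sum_apply] at this

theorem span_le_range (l : KP) (w : Fin (r + 1) → KX)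
    (hw : comb g r l w = l ^ (r + 1)) : Gen.span g l ≤ (comb g r l).range := by
  have hpow : ∀ (i : ℕ) (hi : i < r + 1) (a : KX), comb g r l (Pi.single ⟨i, hi⟩ a) = g a * l ^ i := by
    intro i hi a
    refine (Finset.sum_eq_single (⟨i, hi⟩ : Fin (r + 1)) (fun j _ hj => ?_) (fun h => absurd (Finset.mem_univ _) h)).trans ?_
    · rw [Pi.single_eq_of_ne hj, map_zero, zero_mul]
    · rw [Pi.single_eq_same]
  refine (AddSubgroup.closure_le _).2 ?_
  rintro _ ⟨⟨a, n⟩, rfl⟩
  show g a * l ^ n ∈ (comb g r l).range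
  induction n using Nat.strong_induction_on generalizing a with
  | _ n ih =>
    rcases Nat.lt_or_ge n (r + 1) with hn | hn
    · exact ⟨_, hpow n hn a⟩
    · obtain ⟨m, rfl⟩ := Nat.exists_eq_add_of_le hn
      rw [pow_add, ← hw, show g a * (comb g r l w * l ^ m) =
        ∑ i : Fin (r + 1), g (a * w i) * l ^ ((i : ℕ) + m) by
          show g a * ((∑ i : Fin (r + 1), g (w i) * l ^ (i : ℕ)) * l ^ m) = _
          rw [Finset.sum_mul, Finset.mul_sum]
          refine Finset.sum_congr rfl fun i _ => ?_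
          rw [map_mul, pow_add]
          ring]
      exact sum_mem fun i _ => ih _ (by have := i.2; omega) _

end Groth.Agent.Lib.ExchangeFP29.PBK.Free
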