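import Groth.Agent.Lib.ExchangeFP29.PBK.Charts

/-!
# Large twists of bundles on a projective bundle over a quasi-compact scheme
-/

set_option autoImplicit false
set_option linter.style.haveILetI false
set_option linter.unusedSectionVars false
universe u

open CategoryTheory CategoryTheory.Limits AlgebraicGeometry TopologicalSpace

noncomputable section

namespace Groth.Agent.Lib.ExchangeFP29.PBK.Good

open Groth.Agent Groth.Agent.Lib TensorMod.Basic Groth.Agent.Lib.ExchangeFP29.PBK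
open Groth.Agent.Lib.ExchangeFP29.KPush

attribute [local instance] HasDerivedCategory.standard

variable {X P : Scheme.{u}} {π : P ⟶ X} {E : X.Modules} {O1 : P.Modules}
  {q : (Scheme.Modules.pullback π).obj E ⟶ O1} {r : ℕ}
  (hP : KRR.IsProjBundle π E O1 q) (hE : FlatMod.IsFinLocFreeOfRank (r + 1) E)

/-- A module regular in every chart has no higher direct images. -/
theorem acy_of_charts {t : Finset X} {c : X → Charts.Ch π O1 r}
    (hc : ∀ x : X, ∃ y ∈ t, x ∈ Set.range (c y).k) {M : P.Modules}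
    (hM : ∀ y ∈ t, Reg.RB ((Scheme.Modules.pullback (c y).J).obj M)) : Acy π M := by
  intro p
  let S : Set (Opens X) := {W | IsAffineOpen W ∧ ∃ y ∈ t, W ≤ (c y).k.opensRange}
  have hS : Opens.IsBasis S := Opens.isBasis_iff_nbhd.2 fun {U x} hx => by
    obtain ⟨y, hy, hxy⟩ := hc x
    obtain ⟨W, hW, hxW, hle⟩ := exists_isAffineOpen_mem_and_subset (X := X) (x := x)
      (U := U ⊓ (c y).k.opensRange) ⟨hx, hxy⟩
    exact ⟨W, ⟨hW, y, hy, fun z hz => (hle hz).2⟩, hxW, fun z hz => (hle hz).1⟩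
  refine ZarCoh.RpushVanish.isZero_RpushAb π.base hS p ?_
  rintro W ⟨hW, y, hy, hWy⟩
  have hV : IsAffineOpen ((c y).k ⁻¹ᵁ W) := hW.preimage_of_isOpenImmersion _ hWy
  set M' := (Scheme.Modules.pullback (c y).J).obj M with hM'
  have hq : Coh.IsQCoh M' := Reg.isQCoh_of_B (hM y hy).1
  have h1 : IsZero (H73.RegSeq.Rp (p + 1) M') :=
    H73.RegSeq.isZero_congr (p + 1) (RegSheaf.twZeroIso M')
      (H70.KRRReg.Local.isZero_Rp_of_le hq (hM y hy).2 (p + 1) (by omega) 0 (by omega))
  haveI h2 : Subsingleton (Coh.HH _ (H70.KRRReg.Chart.rest hV M') (p + 1)) :=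
    (H70.KRRReg.Local.isZero_Rp_iff M' hq (p + 1) (by omega)).1 h1 _ hV
  let j := H70.KRRReg.Chart.emb (n := r) hV ≫ (c y).J
  let ι : M.restrict j ≅ H70.KRRReg.Chart.rest hV M' :=
    (Scheme.Modules.restrictFunctorIsoPullback j).app M ≪≫
      ((Scheme.Modules.pullbackComp (H70.KRRReg.Chart.emb (n := r) hV) (c y).J).app M).symm ≪≫
      ((Scheme.Modules.restrictFunctorIsoPullback (H70.KRRReg.Chart.emb (n := r) hV)).app M').symm
  haveI : Subsingleton (Coh.HH _ (M.restrict j) (p + 1)) :=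
    @Equiv.subsingleton _ _
      (((Sheaf.functorH _ (p + 1)).mapIso ((SheafOfModules.toSheaf _).mapIso ι)).addCommGroupIsoToAddEquiv).toEquiv
      h2
  have h3 := (ZarCoh.Morph.openEquiv j M (p + 1)).symm.toEquiv.subsingleton
  have hr : j ''ᵁ ⊤ = π ⁻¹ᵁ W := by
    show (_ ≫ (c y).J) ''ᵁ ⊤ = _
    rw [Scheme.Hom.comp_image, H70.KRRReg.Chart.image_top]
    refine Opens.ext (Set.ext fun z => ⟨?_, fun hz => ?_⟩)
    · rintro ⟨b, hb, rfl⟩
      show π ((c y).J b) ∈ W
      rw [← Scheme.Hom.comp_apply, (c y).sq.w, Scheme.Hom.comp_apply]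
      exact hb
    · obtain ⟨a, ha⟩ := hWy (show π z ∈ W from hz)
      obtain ⟨b, hb1, hb2⟩ := Scheme.Pullback.exists_preimage_pullback (f := π) (g := (c y).k) z a ha.symm
      refine ⟨(c y).sq.isoPullback.inv b, ?_, ?_⟩
      · show (c y).k ((KRR.pr r (c y).T) ((c y).sq.isoPullback.inv b)) ∈ W
        rw [← Scheme.Hom.comp_apply (c y).sq.isoPullback.inv, (c y).sq.isoPullback_inv_snd, hb2, ha]
        exact hz
      · show ((c y).sq.isoPullback.inv ≫ (c y).J) b = z
        rw [(c y).sq.isoPullback_inv_fst]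
        exact hb1
  rw [hr] at h3
  exact h3

include hP hE in
/-- Large twists of bundles are acyclic with locally free direct image. -/
theorem eventually_good [CompactSpace X] [IsProper π] {F : P.Modules} (hF : FlatMod.IsFinLocFree F) :
    ∃ n₀ : ℕ, ∀ m, n₀ ≤ m →
      FlatMod.IsFinLocFree ((Scheme.Modules.pushforward π).obj (CohB1.tensorMod F (CohB1.tensorPow O1 m))) ∧
        Acy π (CohB1.tensorMod F (CohB1.tensorPow O1 m)) := by
  obtain ⟨t, c, hc⟩ := Charts.exists_charts hP hE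
  have h : ∀ y, ∃ k, Ext.Lev k ((Scheme.Modules.pullback (c y).J).obj F) := fun y =>
    Ext.exists_lev _ (TensorMod.LocFree.isFinLocFree_pullback _ hF)
  choose k hk using h
  refine ⟨t.sup k, fun m hm => ?_⟩
  have hB : FlatMod.IsFinLocFree (CohB1.tensorMod F (CohB1.tensorPow O1 m)) :=
    TensorMod.LocFree.isFinLocFree_tensorMod hF (TensorMod.LocFree.of_rank
      (TensorMod.LocFree.of_isInvertible (TensorMod.Invertible.isInvertible_tensorPow
        (PBK.isInvertible hP) _)))
  have hR : ∀ y ∈ t, Reg.RB ((Scheme.Modules.pullback (c y).J).obj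
      (CohB1.tensorMod F (CohB1.tensorPow O1 m))) := by
    intro y hy
    obtain ⟨o⟩ := (c y).iso
    obtain ⟨p⟩ := S3757.nonempty_pow_iso r (c y).T m
    refine Reg.RB_congr ?_ (Ext.lev_of_le (hk y) ((Finset.le_sup hy).trans hm)).2
    exact tensorIso (Iso.refl _) (p ≪≫ (Ample.Pow.powIso o _).symm ≪≫
      (Ample.Pow.pullbackPow (c y).J O1 _).symm) ≪≫ (TensorMod.Pullback.pullbackTensorIso _ _ _).symm
  refine ⟨Charts.isFinLocFree_of_charts hc fun y hy => ?_, acy_of_charts hc hR⟩
  haveI := Modules.AffineSections.isQCoh_of_isFinLocFree hB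
  obtain ⟨e⟩ := Charts.nonempty_pushIso (c y) (CohB1.tensorMod F (CohB1.tensorPow O1 m))
  exact TensorMod.LocFree.of_iso e.symm (Push.isFinLocFree_push (hR y hy))

end Groth.Agent.Lib.ExchangeFP29.PBK.Good
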