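import Groth.Agent.Lib.ExchangeFP29.PBK.Koszul

/-!
# The Koszul recursion in low degrees
-/

set_option autoImplicit false
set_option linter.style.haveILetI false
set_option linter.unusedSectionVars false
universe u v

open CategoryTheory CategoryTheory.Limits AlgebraicGeometry TopologicalSpace

noncomputable section

namespace Groth.Agent.Lib.ExchangeFP29.PBK.Low

open Groth.Agent Groth.Agent.Lib TensorMod.Basic Groth.Agent.Lib.ExchangeFP29.PBK
open Groth.Agent.Lib.ExchangeFP29.PBK.Koszul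

attribute [local instance] HasDerivedCategory.standard

variable {X P : Scheme.{u}} {π : P ⟶ X} {E : X.Modules} {O1 : P.Modules}
  {q : (Scheme.Modules.pullback π).obj E ⟶ O1} {r : ℕ}
  (hP : KRR.IsProjBundle π E O1 q) (hE : FlatMod.IsFinLocFreeOfRank (r + 1) E)

/-- No direct images at all. -/
def Null (π : P ⟶ X) (M : P.Modules) : Prop :=
  Acy π M ∧ IsZero ((Scheme.Modules.pushforward π).obj M)

theorem Null.congr {M N : P.Modules} (e : M ≅ N) (h : Null π M) : Null π N :=
  ⟨h.1.congr e, h.2.of_iso ((Scheme.Modules.pushforward π).mapIso e.symm)⟩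

include hP hE in
/-- The small negative powers of `O(1)` have no direct images. -/
theorem null_pow {L : P.Modules} (c : CohB1.tensorMod O1 L ≅ Coh.structureModule P) {k : ℕ}
    (h1 : 1 ≤ k) (hk : k ≤ r) : Null π (CohB1.tensorPow L k) := by
  have h := (S4483.result π r E hE O1 q hP L ⟨comm L O1 ≪≫ c⟩).2 k
  refine ⟨fun i => h (i + 1) h1 (by omega), RegSheaf.isZero_of_toAb ?_⟩
  haveI : (CohTop.push π.base).IsRightAdjoint :=
    (TopCat.Sheaf.pullbackPushforwardAdjunction AddCommGrpCat.{u} _).isRightAdjoint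
  haveI : PreservesFiniteLimits (Coh.pushAb π) :=
    inferInstanceAs (PreservesFiniteLimits (CohTop.push π.base))
  exact (h 0 h1 (by omega)).of_iso (((Coh.pushAb π).rightDerivedZeroIsoSelf).app (Coh.toAb (CohB1.tensorPow L k))).symm

theorem Null.pull {M : P.Modules} (h : Null π M) {G : X.Modules} (hG : FlatMod.IsFinLocFree G) :
    Null π (CohB1.tensorMod ((Scheme.Modules.pullback π).obj G) M) := by
  obtain ⟨p⟩ := nonempty_proj (π := π) M hG
  refine ⟨h.1.pull hG, IsZero.of_iso ?_ p⟩
  exact ((tensorBy G).map_isZero h.2).of_iso (comm _ _)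

variable (D : Data π E O1 r)

include hP hE in
theorem null_mid {s k : ℕ} (h1 : 1 ≤ k) (hk : k ≤ r) :
    Null π (CohB1.tensorMod (D.Mm (s + k)) (CohB1.tensorPow O1 s)) := by
  obtain ⟨L, -, ⟨c⟩⟩ := TensorMod.Invertible.exists_inverse (PBK.isInvertible hP)
  obtain ⟨a⟩ := D.mid (s + k) 0
  obtain ⟨d⟩ := nonempty_powCancel c k 0
  have d' : CohB1.tensorMod (CohB1.tensorPow O1 k) (CohB1.tensorPow L k) ≅
      Coh.structureModule P := comm _ _ ≪≫ d
  refine Null.congr ?_ ((null_pow hP hE c h1 hk).pull (D.hG (s + k)))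
  exact tensorIso ((rightUnit _).symm ≪≫ a.symm) (Iso.refl _) ≪≫
    tensorIso (tensorIso (Iso.refl (D.Mm (s + k))) (Ample.Pow.powAdd O1 s k) ≪≫
      (assoc _ _ _).symm) (Iso.refl _) ≪≫ assoc _ _ _ ≪≫ tensorIso (Iso.refl _) d' ≪≫ rightUnit _

include hP in
theorem exists_seq' (s i : ℕ) :
    ∃ S : ShortComplex P.Modules, S.ShortExact ∧ S.X₁ = T D s (i + 1) ∧ S.X₃ = T D s i ∧
      S.X₂ = CohB1.tensorMod (D.Mm (i + 1)) (CohB1.tensorPow O1 s) := by
  obtain ⟨S, hS, h1, h2, h3⟩ := D.seq i
  refine ⟨_, Cyc.CH.shortExact_tensor_right (TensorMod.FPConv.isFlat_of_isFinLocFree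
    (TensorMod.LocFree.of_rank (TensorMod.LocFree.of_isInvertible
      (TensorMod.Invertible.isInvertible_tensorPow (PBK.isInvertible hP) s)))) hS, ?_, ?_, ?_⟩
  · show CohB1.tensorMod S.X₁ _ = _
    rw [h1]
  · show CohB1.tensorMod S.X₃ _ = _
    rw [h3]
  · show CohB1.tensorMod S.X₂ _ = _
    rw [h2]

include hP hE in
theorem mid_acy (s i : ℕ) (hs : 1 ≤ s) (hi : i ≤ r) :
    Acy π (CohB1.tensorMod (D.Mm (i + 1)) (CohB1.tensorPow O1 s)) := by
  rcases le_or_gt (i + 1) s with h | h
  · obtain ⟨t, rfl⟩ := Nat.exists_eq_add_of_le h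
    obtain ⟨e⟩ := D.mid (i + 1) t
    exact ((acy_pow hP hE t).pull (D.hG _)).congr e.symm
  · obtain ⟨k, hk⟩ := Nat.exists_eq_add_of_le h.le
    rw [hk]
    exact (null_mid hP hE D (s := s) (k := k) (by omega) (by omega)).1

include hP hE in
theorem acy_T (s : ℕ) (hs : 1 ≤ s) (i : ℕ) : Acy π (T D s i) := by
  suffices key : ∀ d i, r + 1 ≤ i + d → Acy π (T D s i) from key (r + 1) i (by omega)
  intro d
  induction d with
  | zero => exact fun i hi => Acy.of_isZero (isZero_T D s (by omega))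
  | succ d ih =>
    intro i hi
    rcases le_or_gt (r + 1) i with h | h
    · exact ih i (by omega)
    obtain ⟨S, hS, h1, h3, h2⟩ := exists_seq' hP D s i
    rw [← h3]
    exact Acy.right hS (h1.symm ▸ ih (i + 1) (by omega)) (h2.symm ▸ mid_acy hP hE D s i hs (by omega))

include hP hE in
theorem push_seq (s i : ℕ) (hs : 1 ≤ s) :
    ∃ S : ShortComplex X.Modules, S.ShortExact ∧
      S.X₁ = (Scheme.Modules.pushforward π).obj (T D s (i + 1)) ∧
      S.X₃ = (Scheme.Modules.pushforward π).obj (T D s i) ∧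
      S.X₂ = (Scheme.Modules.pushforward π).obj
        (CohB1.tensorMod (D.Mm (i + 1)) (CohB1.tensorPow O1 s)) := by
  obtain ⟨S, hS, h1, h3, h2⟩ := exists_seq' hP D s i
  refine ⟨_, shortExact_push hS (h1.symm ▸ acy_T hP hE D s hs (i + 1)), ?_, ?_, ?_⟩
  · show (Scheme.Modules.pushforward π).obj S.X₁ = _
    rw [h1]
  · show (Scheme.Modules.pushforward π).obj S.X₃ = _
    rw [h3]
  · show (Scheme.Modules.pushforward π).obj S.X₂ = _
    rw [h2]

include hP hE in
theorem isFinLocFree_mid [CompactSpace X] [IsProper π] (s i : ℕ) (hs : 1 ≤ s) (hi : i ≤ r) :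
    FlatMod.IsFinLocFree ((Scheme.Modules.pushforward π).obj
      (CohB1.tensorMod (D.Mm (i + 1)) (CohB1.tensorPow O1 s))) := by
  rcases le_or_gt (i + 1) s with h | h
  · obtain ⟨t, rfl⟩ := Nat.exists_eq_add_of_le h
    obtain ⟨e⟩ := D.mid (i + 1) t
    obtain ⟨p⟩ := nonempty_proj (π := π) (CohB1.tensorPow O1 t) (D.hG (i + 1))
    exact TensorMod.LocFree.of_iso ((Scheme.Modules.pushforward π).mapIso e ≪≫ p).symm
      (TensorMod.LocFree.isFinLocFree_tensorMod (D.hG _) (isFinLocFree_push_pow hP hE t))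
  · obtain ⟨k, hk⟩ := Nat.exists_eq_add_of_le h.le
    rw [hk]
    exact KAugNil98.Main.isFinLocFree_isZero (null_mid hP hE D (by omega) (by omega)).2

section Classes

variable {K : Type v} [CommRing K] [LambdaRing.LambdaOps K]
  {φ : SGA6.Kvb X →+ K} (hK : IsLam X K φ)

include hP hE hK in
/-- The Koszul recursion in the degrees `1 ≤ s ≤ r`. -/
theorem recursion [CompactSpace X] [IsProper π] (s : ℕ) (hs : 1 ≤ s) (hsr : s ≤ r) :
    ∑ i ∈ Finset.range (s + 1), (-1 : K) ^ i * LambdaRing.LambdaOps.lam i (φ (KRR.cl X E)) *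
      pushPow π O1 φ (s - i) = 0 := by
  obtain ⟨D⟩ := nonempty_data hP hE
  let c : ℕ → K := fun i => φ (KRR.cl X ((Scheme.Modules.pushforward π).obj (T D s i)))
  have hEf : FlatMod.IsFinLocFree E := TensorMod.LocFree.of_rank hE
  have hT : ∀ i, FlatMod.IsFinLocFree ((Scheme.Modules.pushforward π).obj (T D s i)) := by
    intro i
    induction i with
    | zero =>
      exact TensorMod.LocFree.of_iso ((Scheme.Modules.pushforward π).mapIso (nonempty_zero D s).some.symm)
        (isFinLocFree_push_pow hP hE s)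
    | succ i ih =>
      rcases le_or_gt i r with hi | hi
      · obtain ⟨S, hS, h1, h3, h2⟩ := push_seq hP hE D s i hs
        rw [← h1]
        exact isFinLocFree_X1 hS (h2.symm ▸ isFinLocFree_mid hP hE D s i hs hi) (h3.symm ▸ ih)
      · exact KAugNil98.Main.isFinLocFree_isZero (isZero_push_T D s (by omega))
  have hadd : ∀ i, i ≤ r → c (i + 1) + c i = φ (KRR.cl X ((Scheme.Modules.pushforward π).obj
      (CohB1.tensorMod (D.Mm (i + 1)) (CohB1.tensorPow O1 s)))) := by
    intro i hi
    obtain ⟨S, hS, h1, h3, h2⟩ := push_seq hP hE D s i hs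
    have hrel := congrArg φ (KAugNil98.Main.clSub_shortExact hS (h1.symm ▸ hT (i + 1))
      (h2.symm ▸ isFinLocFree_mid hP hE D s i hs hi) (h3.symm ▸ hT i))
    show φ (KRR.cl X _) + φ (KRR.cl X _) = _
    rw [← h1, ← h2, ← h3, ← map_add]
    exact hrel.symm
  have hstep : ∀ i, i < s → c (i + 1) + c i =
      LambdaRing.LambdaOps.lam (i + 1) (φ (KRR.cl X E)) * pushPow π O1 φ (s - (i + 1)) := by
    intro i hi
    obtain ⟨t, ht⟩ := Nat.exists_eq_add_of_le (show i + 1 ≤ s from hi)
    obtain ⟨e⟩ := D.mid (i + 1) t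
    obtain ⟨p⟩ := nonempty_proj (π := π) (CohB1.tensorPow O1 t) (D.hG (i + 1))
    rw [hadd i (by omega), hK.map_lam (i + 1) E (D.Gm (i + 1)) hEf (D.hG _) (D.hGext _), pushPow,
      hK.map_mul _ _ (D.hG _) (isFinLocFree_push_pow hP hE _), ht, Nat.add_sub_cancel_left]
    exact congrArg φ (KAugNil98.Main.cl_iso ((Scheme.Modules.pushforward π).mapIso e ≪≫ p)
      (ht ▸ isFinLocFree_mid hP hE D s i hs (by omega)))
  have htail : ∀ d i, s ≤ i → r + 1 ≤ i + d → c i = 0 := by
    intro d
    induction d with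
    | zero =>
      exact fun i _ hi => (congrArg φ (KAugNil98.Main.cl_isZero (isZero_push_T D s (by omega)))).trans
        (map_zero _)
    | succ d ih =>
      intro i hsi hi
      rcases le_or_gt (r + 1) i with h | h
      · exact ih i hsi (by omega)
      obtain ⟨k, hk⟩ := Nat.exists_eq_add_of_le (show s ≤ i + 1 by omega)
      have h2 := hadd i (by omega)
      rw [ih (i + 1) (by omega) (by omega), zero_add] at h2
      refine h2.trans ((congrArg φ (KAugNil98.Main.cl_isZero ?_)).trans (map_zero _))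
      rw [hk]
      exact (null_mid hP hE D (by omega) (by omega)).2
  have key : ∀ k, k ≤ s → ∑ i ∈ Finset.range (k + 1),
      (-1 : K) ^ i * LambdaRing.LambdaOps.lam i (φ (KRR.cl X E)) * pushPow π O1 φ (s - i) =
        (-1 : K) ^ k * c k := by
    intro k hk
    induction k with
    | zero =>
      simp only [zero_add, Finset.sum_range_one, pow_zero, one_mul, Nat.sub_zero,
        LambdaRing.LambdaOps.lam_zero]
      exact (congrArg φ (KAugNil98.Main.cl_iso
        ((Scheme.Modules.pushforward π).mapIso (nonempty_zero D s).some) (hT 0))).symm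
    | succ k ih =>
      rw [Finset.sum_range_succ, ih (by omega), mul_assoc, ← hstep k (by omega), pow_succ]
      ring
  rw [key s le_rfl, htail (r + 1) s le_rfl (by omega), mul_zero]

end Classes

end Groth.Agent.Lib.ExchangeFP29.PBK.Low
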