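import Groth.Agent.Lib.ExchangeFP29.PBK.Basis
import Groth.Agent.Lib.ExchangeFP29.PBK.Split
import Groth.Prelude.Def_ClSub2

/-!
# `K₀` of bundles on a projective bundle over a quasi-compact scheme
-/

set_option autoImplicit false
set_option linter.style.haveILetI false
set_option linter.unusedSectionVars false
universe u v

open CategoryTheory CategoryTheory.Limits AlgebraicGeometry TopologicalSpace

noncomputable section

namespace Groth.Agent.Lib.ExchangeFP29.PBK.Qc

open Groth.Agent Groth.Agent.Lib TensorMod.Basic Groth.Agent.Lib.ExchangeFP29.PBK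

attribute [local instance] HasDerivedCategory.standard

theorem exists_ringHom {X Z : Scheme.{u}} (f : Z ⟶ X) {K : Type v} [CommRing K]
    [LambdaRing.LambdaOps K] {φ : SGA6.Kvb X →+ K} (hK : Koszul.IsLam X K φ)
    {K' : Type v} [CommRing K'] [LambdaRing.LambdaOps K'] {φ' : SGA6.Kvb Z →+ K'}
    (hK' : Koszul.IsLam Z K' φ') : ∃ h : K →+* K', KRR.IsPull f φ φ' h.toAddMonoidHom := by
  obtain ⟨pb, hpb⟩ := KVec.Pull.exists_pull f
  let h₀ : K →+ K' := (φ'.comp pb).comp (AddEquiv.ofBijective φ hK.bijective).symm.toAddMonoidHom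
  have hh : ∀ E, FlatMod.IsFinLocFree E →
      h₀ (φ (KRR.cl X E)) = φ' (KRR.cl Z ((Scheme.Modules.pullback f).obj E)) := fun E hE =>
    (congrArg (fun z => φ' (pb z))
      ((AddEquiv.ofBijective φ hK.bijective).symm_apply_apply _)).trans (congrArg φ' (hpb E hE))
  have h1 : h₀ 1 = 1 := by
    rw [← hK.map_one, hh _ ExtFilt.Lambda.isFinLocFree_structure, ← hK'.map_one]
    exact congrArg φ' (KAugNil98.Main.cl_iso (PicLoc.pullbackStructureIso f)
      (TensorMod.LocFree.isFinLocFree_pullback _ ExtFilt.Lambda.isFinLocFree_structure))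
  have hmulE : ∀ E, FlatMod.IsFinLocFree E → ∀ y,
      h₀ (φ (KRR.cl X E) * y) = h₀ (φ (KRR.cl X E)) * h₀ y := by
    intro E hE
    refine DFunLike.congr_fun (Split.hom_ext_cl hK.bijective.2
      (a := h₀.comp (AddMonoidHom.mulLeft (φ (KRR.cl X E))))
      (b := (AddMonoidHom.mulLeft (h₀ (φ (KRR.cl X E)))).comp h₀) fun F hF => ?_)
    show h₀ (φ _ * φ _) = h₀ (φ _) * h₀ (φ _)
    rw [hK.map_mul E F hE hF, hh E hE, hh F hF,
      hK'.map_mul _ _ (TensorMod.LocFree.isFinLocFree_pullback _ hE)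
        (TensorMod.LocFree.isFinLocFree_pullback _ hF)]
    have hEF := TensorMod.LocFree.isFinLocFree_tensorMod hE hF
    exact (hh _ hEF).trans (congrArg φ' (KAugNil98.Main.cl_iso
      (TensorMod.Pullback.pullbackTensorIso f E F)
      (TensorMod.LocFree.isFinLocFree_pullback _ hEF)))
  have hm : ∀ x y, h₀ (x * y) = h₀ x * h₀ y := fun x y =>
    DFunLike.congr_fun (Split.hom_ext_cl hK.bijective.2
      (a := h₀.comp (AddMonoidHom.mulRight y)) (b := (AddMonoidHom.mulRight (h₀ y)).comp h₀)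
      fun E hE => hmulE E hE y) x
  exact ⟨{ toFun := h₀, map_one' := h1, map_mul' := hm, map_zero' := map_zero h₀,
           map_add' := map_add h₀ }, hh⟩

/-- `K₀(P(E))` is free on `1, t, …, t^(r-1)`, `t = [O(-1)]`. -/
theorem bijective {T P : Scheme.{u}} [CompactSpace T] (r : ℕ) (E : T.Modules)
    (hE : FlatMod.IsFinLocFreeOfRank r E) (π : P ⟶ T) (O1 : P.Modules)
    (q : (Scheme.Modules.pullback π).obj E ⟶ O1) (hP : KRR.IsProjBundle π E O1 q)
    (Oinv : P.Modules) (hinv : ClSub.IsInverseOf Oinv O1)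
    (G : Fin r → (SGA6.Kvb T →+ SGA6.Kvb P))
    (hG : ∀ (i : Fin r) (N : T.Modules), FlatMod.IsFinLocFree N →
      G i (KRR.cl T N) = KRR.cl P (CohB1.tensorMod (CohB1.tensorPow Oinv (i : ℕ)) ((Scheme.Modules.pullback π).obj N))) :
    Function.Bijective (fun a : Fin r → SGA6.Kvb T => ∑ i : Fin r, G i (a i)) := by
  rcases r with _ | n
  · haveI := Cyc.CH.BdlUniq.isEmpty hP hE
    have hz : ∀ z : SGA6.Kvb P, z = 0 := fun z =>
      DFunLike.congr_fun (KRes.KSub.hom_ext (φ := AddMonoidHom.id (SGA6.Kvb P)) (ψ := 0) fun M hM =>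
        KAugNil98.Main.cl_isZero (Cyc.CH.isZero_of_rank_zero fun x => isEmptyElim x)) z
    exact ⟨fun a b _ => funext fun i => i.elim0, fun z => ⟨fun i => i.elim0, by simp [hz z]⟩⟩
  haveI := Cyc.CH.BdlUniq.isProper hP hE
  obtain ⟨c⟩ := hinv
  obtain ⟨KX, _, _, φX, hX⟩ := Koszul.exists_isLam T
  obtain ⟨KP, _, _, φP, hKP⟩ := Koszul.exists_isLam P
  obtain ⟨g, hg⟩ := exists_ringHom π hX hKP
  have hO := TensorMod.LocFree.of_rank hP.invertible
  obtain ⟨L', hL', ⟨c'⟩⟩ := TensorMod.Invertible.exists_inverse (PBK.isInvertible hP)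
  let ι : Oinv ≅ L' := TensorMod.Invertible.cancelRight (PBK.isInvertible hP)
    (c ≪≫ (comm L' O1 ≪≫ c').symm)
  have hLinv : PicF.IsInvertible Oinv := fun x => by
    obtain ⟨U, hx, ⟨i⟩⟩ := hL' x
    exact ⟨U, hx, ⟨(Scheme.Modules.restrictFunctor U.ι).mapIso ι ≪≫ i⟩⟩
  have hL : FlatMod.IsFinLocFree Oinv := TensorMod.LocFree.of_rank (TensorMod.LocFree.of_isInvertible hLinv)
  set l := φP (KRR.cl P O1) with hl
  set t := φP (KRR.cl P Oinv) with ht
  have htl : t * l = 1 := by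
    rw [ht, hl, hKP.map_mul _ _ hL hO, ← hKP.map_one]
    exact congrArg φP (KAugNil98.Main.cl_iso c (TensorMod.LocFree.isFinLocFree_tensorMod hL hO))
  have hpow : ∀ i : ℕ, φP (KRR.cl P (CohB1.tensorPow Oinv i)) = t ^ i ∧
      FlatMod.IsFinLocFree (CohB1.tensorPow Oinv i) := fun i => by
    induction i with
    | zero => exact ⟨(pow_zero t).symm ▸ hKP.map_one, ExtFilt.Lambda.isFinLocFree_structure⟩
    | succ i ih =>
      exact ⟨by rw [pow_succ, ← ih.1]; exact (hKP.map_mul _ _ ih.2 hL).symm,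
        TensorMod.LocFree.isFinLocFree_tensorMod ih.2 hL⟩
  have hGi : ∀ (i : Fin (n + 1)) (a : SGA6.Kvb T), φP (G i a) = t ^ (i : ℕ) * g (φX a) := fun i a =>
    DFunLike.congr_fun (KRes.KSub.hom_ext (φ := φP.comp (G i))
      (ψ := (AddMonoidHom.mulLeft (t ^ (i : ℕ))).comp (g.toAddMonoidHom.comp φX)) fun N hN => by
        show φP (G i (KRR.cl T N)) = t ^ (i : ℕ) * g (φX (KRR.cl T N))
        have hgN : g (φX (KRR.cl T N)) = φP (KRR.cl P ((Scheme.Modules.pullback π).obj N)) := hg N hN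
        rw [hG i N hN, hgN, ← (hpow i).1]
        exact (hKP.map_mul _ _ (hpow i).2 (TensorMod.LocFree.isFinLocFree_pullback π hN)).symm) a
  have hbij := Basis.comb_bijective hP hE hX hKP g hg
  have hlt : ∀ k : ℕ, l ^ k * t ^ k = 1 := fun k => by rw [← mul_pow, mul_comm l, htl, one_pow]
  have key : ∀ a : Fin (n + 1) → SGA6.Kvb T, φP (∑ i, G i (a i)) =
      t ^ n * Free.comb g n l (fun j => φX (a j.rev)) := by
    intro a
    rw [map_sum, ← Equiv.sum_comp Fin.revPerm]
    show _ = t ^ n * ∑ j : Fin (n + 1), g (φX (a j.rev)) * l ^ (j : ℕ)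
    rw [Finset.mul_sum]
    refine Finset.sum_congr rfl fun j _ => ?_
    rw [Fin.revPerm_apply, hGi]
    have hj := j.2
    rw [show t ^ n = t ^ (((j.rev : Fin (n + 1)) : ℕ)) * t ^ (j : ℕ) by
      rw [← pow_add, Fin.val_rev]; congr 1; omega]
    calc t ^ ((j.rev : Fin (n + 1)) : ℕ) * g (φX (a j.rev))
        = t ^ ((j.rev : Fin (n + 1)) : ℕ) * g (φX (a j.rev)) * (l ^ (j : ℕ) * t ^ (j : ℕ)) := by
          rw [hlt, mul_one]
      _ = _ := by ring
  constructor
  · intro a b hab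
    have h := congrArg (fun z => l ^ n * φP z) hab
    simp only [key, ← mul_assoc, hlt, one_mul] at h
    have h' := hbij.1 h
    refine funext fun i => hX.bijective.1 ?_
    have := congrFun h' i.rev
    simpa using this
  · intro z
    obtain ⟨b, hb⟩ := hbij.2 (l ^ n * φP z)
    refine ⟨fun i => (AddEquiv.ofBijective φX hX.bijective).symm (b i.rev), hKP.bijective.1 ?_⟩
    rw [key]
    have : (fun j : Fin (n + 1) => φX ((fun i : Fin (n + 1) =>
        (AddEquiv.ofBijective φX hX.bijective).symm (b i.rev)) j.rev)) = b := funext fun j => by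
      simp only [Fin.rev_rev]
      exact (AddEquiv.ofBijective φX hX.bijective).apply_symm_apply (b j)
    rw [this, hb, ← mul_assoc, mul_comm (t ^ n), hlt, one_mul]

end Groth.Agent.Lib.ExchangeFP29.PBK.Qc
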