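import Groth.Agent.Lib.ExchangeFP29.PBK.Dual
import Groth.Prelude.Def_RefHull
import Groth.Prelude.Def_KDet
import Groth.Agent.Lib.Lambda.ExtFil
import Groth.Agent.Lib.Lambda.PosFil

/-!
# The push-forward of the powers of `1 - [O(-1)]` along a projective bundle
-/

set_option autoImplicit false
set_option linter.style.haveILetI false
set_option linter.unusedSectionVars false
universe u v

open CategoryTheory CategoryTheory.Limits AlgebraicGeometry TopologicalSpace

noncomputable section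

namespace Groth.Agent.Lib.ExchangeFP29.PBK.Segre

open Groth.Agent Groth.Agent.Lib TensorMod.Basic Groth.Agent.Lib.ExchangeFP29.PBK

attribute [local instance] HasDerivedCategory.standard

variable {X Y : Scheme.{u}} [IsNoetherian X] [IsNoetherian Y] [ConnectedSpace ↥X] [ConnectedSpace ↥Y]
  {π : X ⟶ Y} [HasInjectiveResolutions X.Modules] {E : Y.Modules} {O1 : X.Modules}
  {q : (Scheme.Modules.pullback π).obj E ⟶ O1} {r : ℕ}
  (hP : KRR.IsProjBundle π E O1 q) (hE : FlatMod.IsFinLocFreeOfRank (r + 1) E)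
  {KX : Type u} [CommRing KX] [LambdaRing.LambdaOps KX] {PX : LambdaRing.PosStructure KX}
  {φX : SGA6.Kvb X →+ KX} (hKX : KRR.IsModel X KX PX φX)
  {KY : Type u} [CommRing KY] [LambdaRing.LambdaOps KY] {PY : LambdaRing.PosStructure KY}
  {φY : SGA6.Kvb Y →+ KY} (hKY : KRR.IsModel Y KY PY φY)
  (h : KY →+* KX) (hh : KRR.IsPull π φY φX h.toAddMonoidHom)
  {g : KX →+ KY} (hg : KDet.IsPushF π (Coh.structureModule X) φX φY g)

include hP hE hKX hKY hh hg in
/-- The push-forward of `π^* c · [O(1)]^m`. -/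
theorem push_pull_pow (c : KY) (m : ℕ) :
    g (h c * φX (KRR.cl X O1) ^ m) = c * Koszul.pushPow π O1 φY m := by
  haveI := Cyc.CH.BdlUniq.isProper hP hE
  refine DFunLike.congr_fun (Split.hom_ext_cl hKY.bijective.2
    (a := g.comp ((AddMonoidHom.mulRight (φX (KRR.cl X O1) ^ m)).comp h.toAddMonoidHom))
    (b := AddMonoidHom.mulRight (Koszul.pushPow π O1 φY m)) fun G hG => ?_) c
  show g (h (φY (KRR.cl Y G)) * φX (KRR.cl X O1) ^ m) = φY (KRR.cl Y G) * Koszul.pushPow π O1 φY m
  have hO := TensorMod.LocFree.of_rank hP.invertible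
  have hpG := TensorMod.LocFree.isFinLocFree_pullback π hG
  obtain ⟨h1, h2⟩ := Gen.map_pow_cl (Koszul.IsLam.of_model hKX) hpG hO m
  have hhG : h (φY (KRR.cl Y G)) = φX (KRR.cl X ((Scheme.Modules.pullback π).obj G)) := hh G hG
  rw [hhG, ← h1]
  set W := CohB1.tensorMod ((Scheme.Modules.pullback π).obj G) (CohB1.tensorPow O1 m) with hW
  have hWB : FlatMod.IsFinLocFree W := TensorMod.LocFree.isFinLocFree_tensorMod hpG h2
  have hacy : Acy π (CohB1.tensorMod (Coh.structureModule X) W) :=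
    ((acy_pow hP hE m).pull hG).congr (leftUnit W).symm
  obtain ⟨p⟩ := nonempty_proj (π := π) (CohB1.tensorPow O1 m) hG
  let ι : (Coh.push π).obj (CohB1.tensorMod (Coh.structureModule X) W) ≅
      CohB1.tensorMod G ((Scheme.Modules.pushforward π).obj (CohB1.tensorPow O1 m)) :=
    (Coh.push π).mapIso (leftUnit W) ≪≫ p
  have hfl := TensorMod.LocFree.isFinLocFree_tensorMod hG (Koszul.isFinLocFree_push_pow hP hE m)
  refine (hg W hWB (fun i hi => ?_) (TensorMod.LocFree.of_iso ι.symm hfl)).trans ?_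
  · obtain ⟨j, rfl⟩ : ∃ j, i = j + 1 := ⟨i - 1, by omega⟩
    obtain ⟨a⟩ := Groth.Agent.S11319.result π (CohB1.tensorMod (Coh.structureModule X) W) (j + 1)
    exact RegSheaf.isZero_of_toAb ((hacy j).of_iso a)
  · rw [hKY.map_mul _ _ hG (Koszul.isFinLocFree_push_pow hP hE m)]
    exact congrArg φY (KAugNil98.Main.cl_iso ι (TensorMod.LocFree.of_iso ι.symm hfl))

include hP hE hKX hKY hh hg in
/-- The push-forward is linear over the base. -/
theorem push_linear (c : KY) (x : KX) : g (h c * x) = c * g x := by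
  obtain ⟨a, rfl⟩ := (Basis.comb_bijective hP hE (Koszul.IsLam.of_model hKY) (Koszul.IsLam.of_model hKX) h hh).2 x
  show g (h c * ∑ i : Fin (r + 1), h (a i) * φX (KRR.cl X O1) ^ (i : ℕ)) =
    c * g (∑ i : Fin (r + 1), h (a i) * φX (KRR.cl X O1) ^ (i : ℕ))
  rw [Finset.mul_sum, map_sum, map_sum, Finset.mul_sum]
  refine Finset.sum_congr rfl fun i _ => ?_
  rw [← mul_assoc, ← map_mul, push_pull_pow hP hE hKX hKY h hh hg, push_pull_pow hP hE hKX hKY h hh hg,
    mul_assoc]

variable {t : KX} (ht : t * φX (KRR.cl X O1) = 1)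

include hP hE hKX hKY hh hg ht in
/-- The recursion for `π_* O(-j)`. -/
theorem push_neg_relation (j : ℕ) : ∑ i ∈ Finset.range (r + 2), (-1 : KY) ^ i *
    LambdaRing.LambdaOps.lam i (φY (KRR.cl Y E)) *
      g (t ^ j * φX (KRR.cl X O1) ^ (r + 1 - i)) = 0 := by
  have hrel := congrArg (fun z => g (t ^ j * z))
    (Koszul.relation hP hE (Koszul.IsLam.of_model hKY) (Koszul.IsLam.of_model hKX) h hh)
  simp only [mul_zero, map_zero, Finset.mul_sum, map_sum] at hrel
  refine Eq.trans (Finset.sum_congr rfl fun i _ => ?_) hrel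
  rw [← push_linear hP hE hKX hKY h hh hg]
  congr 1
  simp only [map_mul, map_pow, map_neg, map_one]
  ring

include hP hE hKX hKY hh hg in
theorem push_one : g 1 = 1 := by
  have h0 := push_pull_pow hP hE hKX hKY h hh hg 1 0
  haveI := Cyc.CH.BdlUniq.isProper hP hE
  rwa [map_one, one_mul, pow_zero, one_mul, Free.pushPow_zero hP hE (Koszul.IsLam.of_model hKY)] at h0

include hP hE hKX hKY hh hg ht in
/-- `π_* O(-k) = 0` for `1 ≤ k ≤ r`. -/
theorem push_neg_eq_zero (k : ℕ) (h1 : 1 ≤ k) (hk : k ≤ r) : g (t ^ k) = 0 := by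
  haveI := Cyc.CH.BdlUniq.isProper hP hE
  set l := φX (KRR.cl X O1) with hl
  have htl : ∀ a : ℕ, t ^ a * l ^ a = 1 := fun a => by rw [← mul_pow, ht, one_pow]
  induction k using Nat.strong_induction_on with
  | _ k ih =>
    -- `s = r + 1 - k`
    have hrel := push_neg_relation hP hE hKX hKY h hh hg ht k
    have hlow := Low.recursion hP hE (Koszul.IsLam.of_model hKY) (r + 1 - k) (by omega) (by omega)
    rw [← Finset.sum_range_add_sum_Ico _ (show r + 1 - k + 1 ≤ r + 2 by omega)] at hrel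
    rw [Finset.sum_congr rfl (g := fun i => (-1 : KY) ^ i * LambdaRing.LambdaOps.lam i (φY (KRR.cl Y E)) *
      Koszul.pushPow π O1 φY (r + 1 - k - i)) (fun i hi => ?_), hlow, zero_add] at hrel
    · rw [Finset.sum_eq_single (r + 1)] at hrel
      · have hu := ((IsUnit.neg isUnit_one).pow (r + 1)).mul
          (Koszul.isUnit_lam hP hE (Koszul.IsLam.of_model hKY))
        rw [Nat.sub_self, pow_zero, mul_one] at hrel
        exact hu.mul_right_eq_zero.1 hrel
      · intro i hi hne
        rw [Finset.mem_Ico] at hi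
        obtain ⟨b, hb⟩ : ∃ b, k = b + (r + 1 - i) := ⟨k - (r + 1 - i), by omega⟩
        rw [show t ^ k * l ^ (r + 1 - i) = t ^ b by
          rw [hb, pow_add, mul_assoc, htl, mul_one], ih b (by omega) (by omega) (by omega), mul_zero]
      · intro hmem
        exact absurd (Finset.mem_Ico.2 ⟨by omega, by omega⟩) hmem
    · rw [Finset.mem_range] at hi
      have h0 := push_pull_pow hP hE hKX hKY h hh hg 1 (r + 1 - k - i)
      rw [map_one, one_mul, one_mul] at h0
      rw [show t ^ k * l ^ (r + 1 - i) = l ^ (r + 1 - k - i) by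
        rw [show r + 1 - i = k + (r + 1 - k - i) by omega, pow_add, ← mul_assoc, htl, one_mul], h0]

include hP hE hKX hKY hh hg ht in
/-- `π_* O(-(r+1))` is `± (det E)^{-1}`. -/
theorem push_neg_top : LambdaRing.LambdaOps.lam (r + 1) (φY (KRR.cl Y E)) * g (t ^ (r + 1)) = (-1) ^ r := by
  set l := φX (KRR.cl X O1) with hl
  have htl : ∀ a : ℕ, t ^ a * l ^ a = 1 := fun a => by rw [← mul_pow, ht, one_pow]
  have hrel := push_neg_relation hP hE hKX hKY h hh hg ht (r + 1)
  rw [Finset.sum_range_succ', Finset.sum_range_succ, Finset.sum_eq_zero fun i hi => ?_] at hrel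
  · rw [pow_zero, one_mul, LambdaRing.LambdaOps.lam_zero, one_mul, Nat.sub_zero, htl,
      push_one hP hE hKX hKY h hh hg, Nat.sub_self, pow_zero, mul_one, zero_add] at hrel
    have hm : ((-1 : KY) ^ r) * (-1) ^ r = 1 := by rw [← mul_pow, neg_one_mul, neg_neg, one_pow]
    linear_combination (-((-1 : KY) ^ r)) * hrel -
      (LambdaRing.LambdaOps.lam (r + 1) (φY (KRR.cl Y E)) * g (t ^ (r + 1))) * hm
  · rw [Finset.mem_range] at hi
    rw [show r + 1 - (i + 1) = r - i by omega, show t ^ (r + 1) * l ^ (r - i) = t ^ (i + 1) by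
      rw [show r + 1 = (i + 1) + (r - i) by omega, pow_add, mul_assoc, htl, mul_one],
      push_neg_eq_zero hP hE hKX hKY h hh hg ht (i + 1) (by omega) (by omega), mul_zero]

include hP hE hKX hKY hh hg ht in
theorem push_delta (n : ℕ) (hn : n ≤ r) : g ((1 - t) ^ n) = 1 := by
  rw [sub_eq_neg_add, add_pow, map_sum, Finset.sum_eq_single 0]
  · simpa using push_one hP hE hKX hKY h hh hg
  · intro i hi h0
    rw [Finset.mem_range] at hi
    rw [show (-t) ^ i * 1 ^ (n - i) * (n.choose i : KX) =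
        h ((-1) ^ i * (n.choose i : KY)) * t ^ i by
      simp only [map_mul, map_pow, map_neg, map_one, map_natCast]; rw [neg_pow]; ring,
      push_linear hP hE hKX hKY h hh hg, push_neg_eq_zero hP hE hKX hKY h hh hg ht i (by omega) (by omega),
      mul_zero]
  · intro h0
    exact absurd (Finset.mem_range.2 (Nat.succ_pos n)) h0

include hP hE hKX hKY hh hg ht in
theorem push_delta_top {d' : KY} (hd : LambdaRing.LambdaOps.lam (r + 1) (φY (KRR.cl Y E)) * d' = 1) :
    g ((1 - t) ^ (r + 1)) = 1 - d' := by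
  rw [sub_eq_neg_add, add_pow, map_sum, Finset.sum_range_succ, Finset.sum_eq_single 0]
  · rw [show (-t) ^ (r + 1) * 1 ^ (r + 1 - (r + 1)) * ((r + 1).choose (r + 1) : KX) =
        h ((-1) ^ (r + 1)) * t ^ (r + 1) by
      simp only [map_pow, map_neg, map_one, Nat.choose_self, Nat.cast_one]; rw [neg_pow]; ring,
      push_linear hP hE hKX hKY h hh hg]
    have htop := push_neg_top hP hE hKX hKY h hh hg ht
    have hm : ((-1 : KY) ^ r) * (-1) ^ r = 1 := by rw [← mul_pow, neg_one_mul, neg_neg, one_pow]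
    rw [show (-t) ^ 0 * 1 ^ (r + 1 - 0) * ((r + 1).choose 0 : KX) = 1 by simp,
      push_one hP hE hKX hKY h hh hg]
    linear_combination ((-1 : KY) ^ (r + 1) * d') * htop +
      ((-1 : KY) ^ r * g (t ^ (r + 1))) * hd - d' * hm
  · intro i hi h0
    rw [Finset.mem_range] at hi
    rw [show (-t) ^ i * 1 ^ (r + 1 - i) * ((r + 1).choose i : KX) =
        h ((-1) ^ i * ((r + 1).choose i : KY)) * t ^ i by
      simp only [map_mul, map_pow, map_neg, map_one, map_natCast]; rw [neg_pow]; ring,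
      push_linear hP hE hKX hKY h hh hg, push_neg_eq_zero hP hE hKX hKY h hh hg ht i (by omega) (by omega),
      mul_zero]
  · intro h0
    exact absurd (Finset.mem_range.2 (Nat.succ_pos r)) h0

include hP hE hKX hKY hh hg ht in
/-- The relation satisfied by `1 - [O(-1)]`. -/
theorem push_segre (i : ℕ) :
    ∑ k ∈ Finset.range (r + 2), LambdaRing.gamma (r + 1 - k)
      (φY (KRR.cl Y (RefHull.dual E)) - ((r + 1 : ℕ) : KY)) * g ((1 - t) ^ (i + k)) = 0 := by
  obtain ⟨hDr, hdual⟩ := Dual.lam_dual hKY (Nat.le_add_left 1 r) hE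
  set f := φY (KRR.cl Y (RefHull.dual E)) with hf
  set e := φY (KRR.cl Y E) with he
  set l := φX (KRR.cl X O1) with hl
  have htl : ∀ a : ℕ, t ^ a * l ^ a = 1 := fun a => by rw [← mul_pow, ht, one_pow]
  have hfl : ∀ j : ℕ, r + 1 < j → LambdaRing.LambdaOps.lam j f = 0 := fun j hj =>
    PY.lam_eq_zero _ ((hKY.mem_pos_iff _).2 ⟨r + 1, _, Nat.le_add_left 1 r, hDr, rfl⟩) _
      (by rw [hKY.aug_cl _ _ hDr]; exact_mod_cast hj)
  have hgam : ∀ j, LambdaRing.gamma j (f - ((r + 1 : ℕ) : KY)) = ∑ a ∈ Finset.range (r + 1 + 1),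
      if a ≤ j then (-1) ^ (j - a) * ((r + 1 - a).choose (j - a) : KY) * LambdaRing.LambdaOps.lam a f
      else 0 := fun j => Lambda.gamma_sub_natCast_of_rank (Lambda.lineLike_one_of_pos PY) f (r + 1) hfl j
  -- the identity upstairs
  have hid := Lambda.ExtFil.homogeneous_identity (r + 1)
    (fun a => h (LambdaRing.LambdaOps.lam a f)) (1 : KX) (-t)
  rw [show (1 : KX) + -t = 1 - t by ring] at hid
  have hzero : ∑ a ∈ Finset.range (r + 1 + 1),
      h (LambdaRing.LambdaOps.lam a f) * 1 ^ a * (-t) ^ (r + 1 - a) = 0 := by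
    have hu : IsUnit (h (LambdaRing.LambdaOps.lam (r + 1) e)) :=
      (Koszul.isUnit_lam hP hE (Koszul.IsLam.of_model hKY)).map h
    refine hu.mul_left_eq_zero.1 ?_
    have hrel := Koszul.relation hP hE (Koszul.IsLam.of_model hKY) (Koszul.IsLam.of_model hKX) h hh
    rw [Finset.sum_mul, ← Finset.sum_range_reflect]
    refine Eq.trans ?_ (show t ^ (r + 1) * _ = (0 : KX) from (congrArg (t ^ (r + 1) * ·) hrel).trans (mul_zero _))
    rw [Finset.mul_sum]
    refine Finset.sum_congr rfl fun a ha => ?_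
    rw [Finset.mem_range] at ha
    have hd := congrArg h (hdual (r + 1 + 1 - 1 - a) (by omega))
    rw [map_mul, show r + 1 - (r + 1 + 1 - 1 - a) = a by omega] at hd
    rw [show r + 1 - (r + 1 + 1 - 1 - a) = a by omega, one_pow, mul_one, neg_pow]
    rw [show t ^ (r + 1) = t ^ a * t ^ (r + 1 - a) by rw [← pow_add]; congr 1; omega]
    linear_combination ((-1 : KX) ^ a * t ^ a) * hd -
      ((-1 : KX) ^ a * h (LambdaRing.LambdaOps.lam a e) * t ^ a) * htl (r + 1 - a)
  rw [hzero] at hid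
  have h2 := congrArg (fun z => g ((1 - t) ^ i * z)) hid
  simp only [mul_zero, map_zero, Finset.mul_sum, map_sum] at h2
  refine Eq.trans ?_ h2
  rw [← Finset.sum_range_reflect]
  refine Finset.sum_congr rfl fun k hk => ?_
  rw [Finset.mem_range] at hk
  rw [show r + 2 - 1 - k = r + 1 - k by omega, show r + 1 - (r + 1 - k) = k by omega,
    ← push_linear hP hE hKX hKY h hh hg, hgam k, map_sum, one_pow, mul_one, pow_add]
  congr 1
  rw [Finset.sum_mul, Finset.sum_mul, Finset.mul_sum]
  refine Finset.sum_congr rfl fun a _ => ?_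
  split_ifs
  · simp only [map_mul, map_pow, map_neg, map_one, map_natCast]
    ring
  · simp

end Groth.Agent.Lib.ExchangeFP29.PBK.Segre
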