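import Groth.Agent.Lib.ExchangeFP29.PBK.Sub1
import Groth.Agent.Lib.Lambda.SplitSpecial

/-!
# `K₀` of bundles on a quasi-compact scheme is a special λ-ring
-/

set_option autoImplicit false
set_option linter.style.haveILetI false
set_option linter.unusedSectionVars false
universe u v w

open CategoryTheory CategoryTheory.Limits AlgebraicGeometry TopologicalSpace

noncomputable section

namespace Groth.Agent.Lib.ExchangeFP29.PBK.Special

open Groth.Agent Groth.Agent.Lib TensorMod.Basic Groth.Agent.Lib.ExchangeFP29.PBK Sub1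

attribute [local instance] HasDerivedCategory.standard

section Pull

variable {X Z : Scheme.{u}} (f : Z ⟶ X) {K : Type v} [CommRing K] [LambdaRing.LambdaOps K]
  {φ : SGA6.Kvb X →+ K} (hK : Koszul.IsLam X K φ)
  {K' : Type w} [CommRing K'] [LambdaRing.LambdaOps K'] {φ' : SGA6.Kvb Z →+ K'}
  (hK' : Koszul.IsLam Z K' φ')

include hK hK' in
/-- Pull-back as a λ-ring homomorphism. -/
theorem exists_pull : ∃ h : K →+* K', KRR.IsPull f φ φ' h.toAddMonoidHom ∧
    (∀ (i : ℕ) (x : K), h (LambdaRing.LambdaOps.lam i x) = LambdaRing.LambdaOps.lam i (h x)) ∧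
    ∀ a ∈ subCl φ, h a ∈ subCl φ' := by
  obtain ⟨pb, hpb⟩ := KVec.Pull.exists_pull f
  let h₀ : K →+ K' := (φ'.comp pb).comp (AddEquiv.ofBijective φ hK.bijective).symm.toAddMonoidHom
  have hh : ∀ E, FlatMod.IsFinLocFree E →
      h₀ (φ (KRR.cl X E)) = φ' (KRR.cl Z ((Scheme.Modules.pullback f).obj E)) := fun E hE =>
    (congrArg (fun z => φ' (pb z))
      ((AddEquiv.ofBijective φ hK.bijective).symm_apply_apply _)).trans (congrArg φ' (hpb E hE))
  have h1 : h₀ 1 = 1 := by
    rw [← hK.map_one, hh _ ExtFilt.Lambda.isFinLocFree_structure, ← hK'.map_one]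
    exact congrArg φ' (KAugNil98.Main.cl_iso (PicLoc.pullbackStructureIso f)
      (TensorMod.LocFree.isFinLocFree_pullback _ ExtFilt.Lambda.isFinLocFree_structure))
  have hmulE : ∀ E, FlatMod.IsFinLocFree E → ∀ y,
      h₀ (φ (KRR.cl X E) * y) = h₀ (φ (KRR.cl X E)) * h₀ y := by
    intro E hE
    refine DFunLike.congr_fun (Split.hom_ext_cl hK.bijective.2
      (a := h₀.comp (AddMonoidHom.mulLeft (φ (KRR.cl X E))))
      (b := (AddMonoidHom.mulLeft (h₀ (φ (KRR.cl X E)))).comp h₀) fun F hF => ?_)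
    show h₀ (φ _ * φ _) = h₀ (φ _) * h₀ (φ _)
    rw [hK.map_mul E F hE hF, hh E hE, hh F hF,
      hK'.map_mul _ _ (TensorMod.LocFree.isFinLocFree_pullback _ hE)
        (TensorMod.LocFree.isFinLocFree_pullback _ hF)]
    have hEF := TensorMod.LocFree.isFinLocFree_tensorMod hE hF
    exact (hh _ hEF).trans (congrArg φ' (KAugNil98.Main.cl_iso
      (TensorMod.Pullback.pullbackTensorIso f E F)
      (TensorMod.LocFree.isFinLocFree_pullback _ hEF)))
  have hm : ∀ x y, h₀ (x * y) = h₀ x * h₀ y := fun x y =>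
    DFunLike.congr_fun (Split.hom_ext_cl hK.bijective.2
      (a := h₀.comp (AddMonoidHom.mulRight y)) (b := (AddMonoidHom.mulRight (h₀ y)).comp h₀)
      fun E hE => hmulE E hE y) x
  let h : K →+* K' := { toFun := h₀, map_one' := h1, map_mul' := hm, map_zero' := map_zero h₀,
                        map_add' := map_add h₀ }
  refine ⟨h, hh, fun i x => ?_, ?_⟩
  · have htop : AddSubgroup.closure {a : K | ∃ E, FlatMod.IsFinLocFree E ∧ a = φ (KRR.cl X E)} ≤
        Lambda.lamEqAddLocus h := by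
      refine (AddSubgroup.closure_le _).2 ?_
      rintro _ ⟨E, hE, rfl⟩ n
      obtain ⟨L, hLB, hL⟩ := Koszul.exists_extPow hE n
      have hE' := TensorMod.LocFree.isFinLocFree_pullback f hE
      obtain ⟨N, hNB, hN⟩ := Koszul.exists_extPow hE' n
      obtain ⟨e₁⟩ := KVec.ExtPowPull.nonempty_iso_pullback f hE hL hN
      show h₀ (LambdaRing.LambdaOps.lam n (φ (KRR.cl X E))) = LambdaRing.LambdaOps.lam n (h₀ (φ _))
      rw [hK.map_lam n E L hE hLB hL, hh L hLB, hh E hE, hK'.map_lam n _ N hE' hNB hN]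
      exact congrArg φ' (KAugNil98.Main.cl_iso e₁ (TensorMod.LocFree.isFinLocFree_pullback _ hLB))
    rw [closure_cl_eq_top hK.bijective.2] at htop
    exact htop (AddSubgroup.mem_top x) i
  · rintro _ ⟨M, hM, rfl⟩
    exact ⟨_, hM.pullback f, hh M hM.1⟩

end Pull

/-- An injective λ-homomorphism into such a ring, after which the given elements are combinations of
classes of bundles of rank at most one. -/
def Splits {X : Scheme.{u}} {K : Type v} [CommRing K] [LambdaRing.LambdaOps K]
    (φ : SGA6.Kvb X →+ K) (xs : Set K) : Prop :=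
  ∃ (X' : Scheme.{u}) (K' : Type (u + 1)) (_ : CommRing K') (_ : LambdaRing.LambdaOps K')
    (φ' : SGA6.Kvb X' →+ K') (g : K →+* K'),
    Koszul.IsLam X' K' φ' ∧ Function.Injective g ∧
    (∀ (i : ℕ) (x : K), g (LambdaRing.LambdaOps.lam i x) = LambdaRing.LambdaOps.lam i (g x)) ∧
    (∀ a ∈ subCl φ, g a ∈ subCl φ') ∧ ∀ x ∈ xs, g x ∈ AddSubgroup.closure (subCl φ')

theorem Splits.comp {X X' : Scheme.{u}} {K : Type v} [CommRing K] [LambdaRing.LambdaOps K]
    {φ : SGA6.Kvb X →+ K} {K' : Type (u + 1)} [CommRing K'] [LambdaRing.LambdaOps K']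
    {φ' : SGA6.Kvb X' →+ K'} (g : K →+* K') (hinj : Function.Injective g)
    (hlam : ∀ (i : ℕ) (x : K), g (LambdaRing.LambdaOps.lam i x) = LambdaRing.LambdaOps.lam i (g x))
    (hsub : ∀ a ∈ subCl φ, g a ∈ subCl φ') {xs : Set K} {ys : Set K'} (hys : Splits φ' ys)
    (hx : ∀ x ∈ xs, g x ∈ AddSubgroup.closure (ys ∪ subCl φ')) : Splits φ xs := by
  obtain ⟨Y, K'', i1, i2, φ'', g', hK'', hinj', hlam', hsub', hys'⟩ := hys
  refine ⟨Y, K'', i1, i2, φ'', g'.comp g, hK'', hinj'.comp hinj,
    fun i x => (congrArg g' (hlam i x)).trans (hlam' i _), fun a ha => hsub' _ (hsub a ha),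
    fun x hxx => ?_⟩
  have h : AddSubgroup.closure (ys ∪ subCl φ') ≤
      (AddSubgroup.closure (subCl φ'')).comap g'.toAddMonoidHom := by
    refine (AddSubgroup.closure_le _).2 (Set.union_subset hys' fun a ha => ?_)
    exact AddSubgroup.subset_closure (hsub' a ha)
  exact h (hx x hxx)

/-- Splitting finitely many bundles of constant rank. -/
theorem exists_splits : ∀ (m : ℕ) {X : Scheme.{u}} [CompactSpace X] {K : Type (u + 1)} [CommRing K]
    [LambdaRing.LambdaOps K] {φ : SGA6.Kvb X →+ K}, Koszul.IsLam X K φ →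
    ∀ es : List (ℕ × X.Modules), (∀ p ∈ es, FlatMod.IsFinLocFreeOfRank p.1 p.2) →
    (es.map fun p => p.1 - 1).sum ≤ m →
    Splits φ {a | ∃ p ∈ es, a = φ (KRR.cl X p.2)} := by
  intro m
  induction m with
  | zero =>
    intro X _ K _ _ φ hK es hes hm
    refine ⟨X, K, inferInstance, inferInstance, φ, RingHom.id K, hK, fun _ _ h => h, fun _ _ => rfl,
      fun _ h => h, ?_⟩
    rintro _ ⟨p, hp, rfl⟩
    have h := List.single_le_sum (fun _ _ => Nat.zero_le _) _
      (List.mem_map_of_mem hp (f := fun p : ℕ × X.Modules => p.1 - 1))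
    have h1 : p.1 - 1 = 0 := Nat.eq_zero_of_le_zero (h.trans hm)
    exact AddSubgroup.subset_closure ⟨p.2, isSub_of_rank (hes p hp) (by omega), rfl⟩
  | succ m ih =>
    intro X _ K _ _ φ hK es hes hm
    by_cases hsmall : ∀ p ∈ es, p.1 ≤ 1
    · refine ih hK es hes (le_trans (le_of_eq (List.sum_eq_zero fun x hx => ?_)) (Nat.zero_le _))
      obtain ⟨p, hp, rfl⟩ := List.mem_map.1 hx
      have := hsmall p hp
      omega
    push Not at hsmall
    obtain ⟨⟨n, E⟩, he₀, h₀⟩ := hsmall
    obtain ⟨r, rfl⟩ : ∃ r, n = r + 1 := ⟨n - 1, by simp only at h₀; omega⟩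
    have hE : FlatMod.IsFinLocFreeOfRank (r + 1) E := hes _ he₀
    obtain ⟨Z, π, O1, q, hP, hπ, -⟩ := Cyc.CH.BdlExists.exists_proper E (TensorMod.LocFree.of_rank hE)
    haveI := hπ
    haveI : CompactSpace Z := QuasiCompact.compactSpace_of_compactSpace π
    obtain ⟨K', _, _, φ', hK'⟩ := Koszul.exists_isLam Z
    obtain ⟨g, hg, hlam, hsub⟩ := exists_pull π hK hK'
    have hbij := Basis.comb_bijective hP hE hK hK' g hg
    have hinj : Function.Injective g := by
      refine (injective_iff_map_eq_zero g).2 fun a ha => ?_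
      have hc : Free.comb g r (φ' (KRR.cl Z O1)) (fun i => if i = 0 then a else 0) = 0 := by
        show ∑ i : Fin (r + 1), g (if i = 0 then a else 0) * φ' (KRR.cl Z O1) ^ (i : ℕ) = 0
        refine Finset.sum_eq_zero fun i _ => ?_
        by_cases hi : i = 0
        · simp [hi, ha]
        · simp [hi]
      have h := congrFun ((injective_iff_map_eq_zero _).1 hbij.1 _ hc) 0
      simpa using h
    haveI := hP.epi
    have hEf := TensorMod.LocFree.of_rank hE
    have hE' := TensorMod.LocFree.isFinLocFree_pullback π hEf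
    have hO := TensorMod.LocFree.of_rank hP.invertible
    have hQ := KAugNil98.Main.isFinLocFree_kernel q hE' hO
    let S := ShortComplex.mk (kernel.ι q) q (kernel.condition q)
    have hS : S.ShortExact :=
      ShortComplex.ShortExact.mk' (S.exact_of_f_is_kernel (kernelIsKernel q)) inferInstance inferInstance
    have hQr : FlatMod.IsFinLocFreeOfRank r (kernel q) := Koszul.of_rk hQ fun y => by
      have h := KVec.Model.rk_add hS hQ hE' hO y
      rw [show KVec.Model.rk S.X₂ y = r + 1 from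
          KVec.Model.rk_of_rank (TensorMod.LocFree.rank_pullback π hE) y,
        show KVec.Model.rk S.X₃ y = 1 from KVec.Model.rk_of_rank hP.invertible y] at h
      have h' : r + 1 = KVec.Model.rk (kernel q) y + 1 := h
      omega
    have hsplit : g (φ (KRR.cl X E)) = φ' (KRR.cl Z (kernel q)) + φ' (KRR.cl Z O1) :=
      (hg E hEf).trans ((congrArg φ' (KRes.KSub.rel (P := KRR.vbP Z) hS hQ hE' hO)).trans (map_add φ' _ _))
    obtain ⟨es₁, es₂, rfl⟩ := List.append_of_mem he₀
    let fs : List (ℕ × Z.Modules) :=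
      (r, kernel q) :: (es₁ ++ es₂).map fun p => (p.1, (Scheme.Modules.pullback π).obj p.2)
    have hmem : ∀ p ∈ es₁ ++ es₂, p ∈ es₁ ++ (r + 1, E) :: es₂ := fun p hp => by
      rcases List.mem_append.1 hp with h | h
      · exact List.mem_append.2 (Or.inl h)
      · exact List.mem_append.2 (Or.inr (List.mem_cons.2 (Or.inr h)))
    have hfs := ih hK' fs (fun p hp => by
      rcases List.mem_cons.1 hp with rfl | hp
      · exact hQr
      · obtain ⟨p', hp', rfl⟩ := List.mem_map.1 hp
        exact TensorMod.LocFree.rank_pullback π (hes p' (hmem p' hp'))) (by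
      simp only [fs, List.map_cons, List.sum_cons, List.map_map, Function.comp_def]
      simp only [List.map_append, List.sum_append, List.map_cons, List.sum_cons] at hm ⊢
      simp only at h₀
      omega)
    refine Splits.comp g hinj hlam hsub hfs ?_
    rintro _ ⟨p, hp, rfl⟩
    rcases List.mem_append.1 hp with h | h
    · exact AddSubgroup.subset_closure (Or.inl ⟨_, List.mem_cons_of_mem _
        (List.mem_map_of_mem (List.mem_append.2 (Or.inl h))), hg p.2 (TensorMod.LocFree.of_rank (hes p hp))⟩)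
    rcases List.mem_cons.1 h with rfl | h
    · rw [hsplit]
      exact add_mem (AddSubgroup.subset_closure (Or.inl ⟨(r, kernel q), List.mem_cons_self, rfl⟩))
        (AddSubgroup.subset_closure (Or.inr ⟨O1, isSub_of_rank hP.invertible le_rfl, rfl⟩))
    · exact AddSubgroup.subset_closure (Or.inl ⟨_, List.mem_cons_of_mem _
        (List.mem_map_of_mem (List.mem_append.2 (Or.inr h))), hg p.2 (TensorMod.LocFree.of_rank (hes p hp))⟩)

/-- Every element is a combination of bundles of constant rank and of rank one pieces. -/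
theorem exists_list {X : Scheme.{u}} [CompactSpace X] {K : Type v} [CommRing K]
    [LambdaRing.LambdaOps K] {φ : SGA6.Kvb X →+ K} (hK : Koszul.IsLam X K φ) (a : K) :
    ∃ es : List (ℕ × X.Modules), (∀ p ∈ es, FlatMod.IsFinLocFreeOfRank p.1 p.2) ∧
      a ∈ AddSubgroup.closure ({b | ∃ p ∈ es, b = φ (KRR.cl X p.2)} ∪ subCl φ) := by
  have ha : a ∈ AddSubgroup.closure {a : K | ∃ E, FlatMod.IsFinLocFree E ∧ a = φ (KRR.cl X E)} := by
    rw [closure_cl_eq_top hK.bijective.2]
    exact AddSubgroup.mem_top a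
  induction ha using AddSubgroup.closure_induction with
  | mem x hx =>
    obtain ⟨E, hE, rfl⟩ := hx
    have hl : IsLocallyConstant (KVec.Model.rk E) := (IsLocallyConstant.iff_exists_open _).2 fun y => by
      obtain ⟨U, n, hy, ⟨i⟩⟩ := hE y
      exact ⟨U, U.2, hy, fun z hz =>
        (KVec.Model.rk_chart i hz).trans (KVec.Model.rk_chart i hy).symm⟩
    obtain ⟨N, hN⟩ := hl.range_finite.bddAbove
    obtain ⟨C, hC, hmem, hrk⟩ := exists_complement hE φ N
    obtain ⟨hEC, hcl, hadd⟩ := KVec.Model.cl_biprod hE hC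
    have hr : FlatMod.IsFinLocFreeOfRank N (E ⊞ C) := Koszul.of_rk hEC fun y => by
      rw [hadd y, hrk y]
      have := hN ⟨y, rfl⟩
      omega
    refine ⟨[(N, E ⊞ C)], fun p hp => by rw [List.mem_singleton] at hp; exact hp ▸ hr, ?_⟩
    have h1 : φ (KRR.cl X E) = φ (KRR.cl X (E ⊞ C)) - φ (KRR.cl X C) := by
      rw [hcl, map_add, add_sub_cancel_right]
    rw [h1]
    exact sub_mem (AddSubgroup.subset_closure (Or.inl ⟨_, List.mem_singleton_self _, rfl⟩))
      (AddSubgroup.closure_mono Set.subset_union_right hmem)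
  | zero => exact ⟨[], by simp, zero_mem _⟩
  | add x y _ _ hx hy =>
    obtain ⟨l, hl, hlx⟩ := hx
    obtain ⟨l', hl', hly⟩ := hy
    refine ⟨l ++ l', fun p hp => (List.mem_append.1 hp).elim (hl p) (hl' p), add_mem ?_ ?_⟩
    · refine AddSubgroup.closure_mono (Set.union_subset_union_left _ ?_) hlx
      rintro _ ⟨p, hp, rfl⟩
      exact ⟨p, List.mem_append.2 (Or.inl hp), rfl⟩
    · refine AddSubgroup.closure_mono (Set.union_subset_union_left _ ?_) hly
      rintro _ ⟨p, hp, rfl⟩
      exact ⟨p, List.mem_append.2 (Or.inr hp), rfl⟩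
  | neg x _ hx =>
    obtain ⟨l, hl, hlx⟩ := hx
    exact ⟨l, hl, neg_mem hlx⟩

/-- Any two elements split simultaneously. -/
theorem exists_split_two {X : Scheme.{u}} [CompactSpace X] {K : Type v} [CommRing K]
    [LambdaRing.LambdaOps K] {φ : SGA6.Kvb X →+ K} (hK : Koszul.IsLam X K φ) (x y : K) :
    Splits φ {x, y} := by
  obtain ⟨K', _, _, φ', hK'⟩ := Koszul.exists_isLam X
  obtain ⟨g, hg, hlam, hsub⟩ := exists_pull (𝟙 X) hK hK'
  have hid : ∀ E, FlatMod.IsFinLocFree E → g (φ (KRR.cl X E)) = φ' (KRR.cl X E) := fun E hE =>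
    (hg E hE).trans (congrArg φ' (KAugNil98.Main.cl_iso ((Scheme.Modules.pullbackId X).app E)
      (TensorMod.LocFree.isFinLocFree_pullback _ hE)))
  have hgφ : g.toAddMonoidHom.comp φ = φ' := KRes.KSub.hom_ext hid
  have hinj : Function.Injective g := fun a b hab => by
    obtain ⟨a, rfl⟩ := hK.bijective.2 a
    obtain ⟨b, rfl⟩ := hK.bijective.2 b
    exact congrArg φ (hK'.bijective.1
      ((DFunLike.congr_fun hgφ a).symm.trans (hab.trans (DFunLike.congr_fun hgφ b))))
  obtain ⟨l₁, hl₁, hx⟩ := exists_list hK' (g x)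
  obtain ⟨l₂, hl₂, hy⟩ := exists_list hK' (g y)
  have hs := exists_splits _ hK' (l₁ ++ l₂) (fun p hp => (List.mem_append.1 hp).elim (hl₁ p) (hl₂ p))
    le_rfl
  refine Splits.comp g hinj hlam hsub hs ?_
  rintro z (rfl | rfl)
  · refine AddSubgroup.closure_mono (Set.union_subset_union_left _ ?_) hx
    rintro _ ⟨p, hp, rfl⟩
    exact ⟨p, List.mem_append.2 (Or.inl hp), rfl⟩
  · refine AddSubgroup.closure_mono (Set.union_subset_union_left _ ?_) hy
    rintro _ ⟨p, hp, rfl⟩
    exact ⟨p, List.mem_append.2 (Or.inr hp), rfl⟩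

attribute [local instance] Lambda.lineOps

section Lines

variable {X : Scheme.{u}} {K : Type v} [CommRing K] [LambdaRing.LambdaOps K] {φ : SGA6.Kvb X →+ K}
  (hK : Koszul.IsLam X K φ)

variable (φ) in
/-- Evaluation at the classes of bundles of rank at most one. -/
def linesMap : MvPolynomial {a : K // a ∈ subCl φ} ℤ →ₐ[ℤ] K := MvPolynomial.aeval fun a => a.1

include hK in
theorem linesMap_lam (n : ℕ) (z : MvPolynomial {a : K // a ∈ subCl φ} ℤ) :
    linesMap φ (LambdaRing.LambdaOps.lam n z) = LambdaRing.LambdaOps.lam n (linesMap φ z) := by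
  refine Lambda.lineEval_lam _ (fun s => lineLike_of_mem_subCl hK ?_) n z
  induction s using Finsupp.induction with
  | zero =>
    rw [MvPolynomial.monomial_zero', MvPolynomial.C_1, map_one]
    exact one_mem_subCl hK
  | single_add a k s _ _ ih =>
    rw [MvPolynomial.monomial_single_add, map_mul, map_pow, MvPolynomial.aeval_X]
    refine mul_mem_subCl hK ?_ ih
    clear * - a hK
    induction k with
    | zero => rw [pow_zero]; exact one_mem_subCl hK
    | succ k ih => rw [pow_succ]; exact mul_mem_subCl hK ih a.2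

theorem exists_linesMap_eq {x : K} (hx : x ∈ AddSubgroup.closure (subCl φ)) :
    ∃ Z, linesMap φ Z = x := by
  have h : AddSubgroup.closure (subCl φ) ≤ (linesMap φ).toRingHom.range.toAddSubgroup := by
    refine (AddSubgroup.closure_le _).2 fun a ha => ?_
    exact ⟨MvPolynomial.X ⟨a, ha⟩, MvPolynomial.aeval_X _ _⟩
  exact h hx

end Lines

/-- `K₀` of bundles on a quasi-compact scheme is a special λ-ring. -/
theorem isSpecial {S : Scheme.{u}} [CompactSpace S] {K : Type v} [CommRing K]
    [LambdaRing.LambdaOps K] {φ : SGA6.Kvb S →+ K} (hK : Koszul.IsLam S K φ) :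
    LambdaRing.IsSpecial K := by
  refine ⟨lineLike_of_mem_subCl hK (one_mem_subCl hK), fun n Q hQ x y => ?_, fun i j Q hQ x => ?_⟩
  · obtain ⟨X', K', _, _, φ', f, hK', hinj, hlam, -, hxy⟩ := exists_split_two hK x y
    obtain ⟨A, hX⟩ := exists_linesMap_eq (hxy x (Set.mem_insert _ _))
    obtain ⟨B, hY⟩ := exists_linesMap_eq (hxy y (Set.mem_insert_of_mem _ rfl))
    apply hinj
    rw [hlam, map_mul f, ← hX, ← hY, ← map_mul, ← linesMap_lam hK',
      (Lambda.isSpecial_line _).lam_mul n Q hQ, Lambda.map_aeval_int]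
    refine (Lambda.map_aeval_int (linesMap φ').toRingHom _ Q).trans ?_
    congr 2
    funext k
    rcases k with k | k
    · show linesMap φ' (LambdaRing.LambdaOps.lam _ A) = f (LambdaRing.LambdaOps.lam _ x)
      rw [linesMap_lam hK', hX, hlam]
    · show linesMap φ' (LambdaRing.LambdaOps.lam _ B) = f (LambdaRing.LambdaOps.lam _ y)
      rw [linesMap_lam hK', hY, hlam]
  · obtain ⟨X', K', _, _, φ', f, hK', hinj, hlam, -, hxy⟩ := exists_split_two hK x x
    obtain ⟨A, hX⟩ := exists_linesMap_eq (hxy x (Set.mem_insert _ _))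
    apply hinj
    rw [hlam, hlam, ← hX, ← linesMap_lam hK', ← linesMap_lam hK',
      (Lambda.isSpecial_line _).lam_lam i j Q hQ, Lambda.map_aeval_int]
    refine (Lambda.map_aeval_int (linesMap φ').toRingHom _ Q).trans ?_
    congr 2
    funext k
    show linesMap φ' (LambdaRing.LambdaOps.lam _ A) = f (LambdaRing.LambdaOps.lam _ x)
    rw [linesMap_lam hK', hX, hlam]

end Groth.Agent.Lib.ExchangeFP29.PBK.Special
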