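import Groth.Agent.Lib.ExchangeFP29.PBK.Qc
import Groth.Agent.Lib.CurveBundle.EndAlg
import Groth.Agent.Lib.CohDelta.KBC.Isotypic
import Groth.Agent.Lib.Lambda.LineRing
import Groth.Agent.H2.Rigid.NormalGamma

/-!
# Bundles of rank at most one
-/

set_option autoImplicit false
set_option linter.style.haveILetI false
set_option linter.unusedSectionVars false
universe u v w

open CategoryTheory CategoryTheory.Limits AlgebraicGeometry TopologicalSpace

noncomputable section

namespace Groth.Agent.Lib.ExchangeFP29.PBK.Sub1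

open Groth.Agent Groth.Agent.Lib TensorMod.Basic Groth.Agent.Lib.ExchangeFP29.PBK

attribute [local instance] HasDerivedCategory.standard

variable {X : Scheme.{u}}

/-- A bundle of rank at most one everywhere. -/
def IsSub (M : X.Modules) : Prop := FlatMod.IsFinLocFree M ∧ ∀ x, KVec.Model.rk M x ≤ 1

theorem isSub_of_rank {M : X.Modules} {n : ℕ} (h : FlatMod.IsFinLocFreeOfRank n M) (hn : n ≤ 1) :
    IsSub M :=
  ⟨TensorMod.LocFree.of_rank h, fun x => (KVec.Model.rk_of_rank h x).trans_le hn⟩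

theorem isSub_structure : IsSub (Coh.structureModule X) :=
  isSub_of_rank (TensorMod.LocFree.of_isInvertible SurfInt.H2Vanish.isInvertible_structure) le_rfl

theorem rk_tensor {M N : X.Modules} (hM : FlatMod.IsFinLocFree M) (hN : FlatMod.IsFinLocFree N) (x : X) :
    KVec.Model.rk (CohB1.tensorMod M N) x = KVec.Model.rk M x * KVec.Model.rk N x := by
  obtain ⟨U, m, hxU, ⟨i⟩⟩ := hM x
  obtain ⟨V, n, hxV, ⟨j⟩⟩ := hN x
  obtain ⟨i'⟩ := TensorMod.LocFree.exists_restrict_iso_freeMod (inf_le_left : U ⊓ V ≤ U) i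
  obtain ⟨j'⟩ := TensorMod.LocFree.exists_restrict_iso_freeMod (inf_le_right : U ⊓ V ≤ V) j
  have hx : x ∈ U ⊓ V := ⟨hxU, hxV⟩
  rw [KVec.Model.rk_chart i' hx, KVec.Model.rk_chart j' hx]
  exact KVec.Model.rk_chart
    (TensorMod.Pullback.restrictTensorIso (U ⊓ V).ι M N ≪≫ tensorIso i' j' ≪≫ TensorMod.LocFree.tensorFreeModIso _ m n) hx

theorem IsSub.tensor {M N : X.Modules} (hM : IsSub M) (hN : IsSub N) :
    IsSub (CohB1.tensorMod M N) :=
  ⟨TensorMod.LocFree.isFinLocFree_tensorMod hM.1 hN.1, fun x => by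
    rw [rk_tensor hM.1 hN.1 x]
    exact Nat.mul_le_mul (hM.2 x) (hN.2 x)⟩

theorem IsSub.pullback {Z : Scheme.{u}} (f : Z ⟶ X) {M : X.Modules} (hM : IsSub M) :
    IsSub ((Scheme.Modules.pullback f).obj M) := by
  refine ⟨TensorMod.LocFree.isFinLocFree_pullback f hM.1, fun z => ?_⟩
  obtain ⟨U, n, hz, ⟨i⟩⟩ := hM.1 (f z)
  obtain ⟨i'⟩ := TensorMod.LocFree.pullback_iso_of_restrict_iso f i
  rw [KVec.Model.rk_chart i' (x := z) hz, ← KVec.Model.rk_chart i hz]
  exact hM.2 _

/-- Exterior powers of degree `≥ 2` vanish. -/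
theorem IsSub.isZero_extPow {M L : X.Modules} (hM : IsSub M) {i : ℕ}
    (hi : 2 ≤ i) (h : ExtPow.IsExtPow i M L) : IsZero L := by
  refine Cyc.CH.isZero_of_rank_zero fun x => ?_
  obtain ⟨U, n, hx, ⟨e⟩⟩ := hM.1 x
  have hn : n ≤ 1 := (KVec.Model.rk_chart e hx).symm.trans_le (hM.2 x)
  have hr : FlatMod.IsFinLocFreeOfRank n ((Scheme.Modules.pullback U.ι).obj M) :=
    TensorMod.LocFree.rank_of_iso (e.symm ≪≫ (Scheme.Modules.restrictFunctorIsoPullback U.ι).app M)
      (TensorMod.LocFree.isFinLocFree_freeMod _ n)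
  obtain ⟨N, -, hN⟩ := Koszul.exists_extPow (TensorMod.LocFree.of_rank hr) i
  obtain ⟨e₁⟩ := KVec.ExtPowPull.nonempty_iso_pullback U.ι hM.1 h hN
  have hN0 := KVec.ExtRank.rank_extPow hr hN
  rw [Nat.choose_eq_zero_of_lt (by omega)] at hN0
  have h0 : IsZero (FlatMod.freeMod (↑U) 0) :=
    Cyc.CH.isZero_of_rank_zero (TensorMod.LocFree.isFinLocFree_freeMod _ 0)
  exact ⟨U, hx, ⟨(Scheme.Modules.restrictFunctorIsoPullback U.ι).app L ≪≫ e₁ ≪≫
    (Cyc.CH.isZero_of_rank_zero hN0).iso h0⟩⟩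

/-- A bundle of rank one on a clopen and zero off it. -/
theorem exists_indicator {B : Set X} (hB : IsClopen B) :
    ∃ M : X.Modules, FlatMod.IsFinLocFree M ∧
      ∀ x, (x ∈ B → KVec.Model.rk M x = 1) ∧ (x ∉ B → KVec.Model.rk M x = 0) := by
  obtain ⟨f, hf, hfB⟩ := H2.Rigid.NormalGamma.exists_idem hB
  let O := Coh.structureModule X
  let e : O ⟶ O := CurveBundle.EndAlg.scal O f
  have he : e ≫ e = e := by
    have h := map_mul (CurveBundle.EndAlg.scalHom O) f f
    rw [hf.eq] at h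
    exact h.symm
  obtain ⟨Y, i, p, hip, hpi⟩ := IsIdempotentComplete.idempotents_split O e he
  have hOr : FlatMod.IsFinLocFreeOfRank 1 O :=
    TensorMod.LocFree.of_isInvertible SurfInt.H2Vanish.isInvertible_structure
  refine ⟨Y, CohDelta.KBC.isFinLocFree_retract i p hip (TensorMod.LocFree.of_rank hOr), fun x => ?_⟩
  let I := Modules.StalkModule.stalkMapₗ i x
  let Q := Modules.StalkModule.stalkMapₗ p x
  let s := X.presheaf.germ ⊤ x trivial f
  have hQI : ∀ v, Q (I v) = v := fun v => by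
    have h := congrArg (fun φ => Modules.StalkModule.stalkMapₗ φ x v) hip
    simpa [Modules.StalkModule.stalkMapₗ_comp] using h
  have hIQ : ∀ v, I (Q v) = s • v := fun v => by
    have h := congrArg (fun φ => Modules.StalkModule.stalkMapₗ φ x v) hpi
    simp only [Modules.StalkModule.stalkMapₗ_comp, LinearMap.comp_apply] at h
    exact h.trans (CurveBundle.EndAlg.stalk_scal O f x v)
  have hmem : x ∈ B ↔ IsUnit s := by
    rw [← hfB]
    exact X.mem_basicOpen f x trivial
  have hss : s * s = s := by rw [← map_mul, hf.eq]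
  constructor
  · intro hx
    have hs : s = 1 := (hmem.1 hx).mul_eq_left.1 hss
    let eq : Y.presheaf.stalk x ≃ₗ[X.presheaf.stalk x] O.presheaf.stalk x :=
      LinearEquiv.ofLinearMap I Q
        (LinearMap.ext fun v => (hIQ v).trans (by rw [hs, one_smul]; rfl))
        (LinearMap.ext fun v => hQI v)
    exact eq.finrank_eq.trans (KVec.Model.rk_of_rank hOr x)
  · intro hx
    have hs : s = 0 := by
      rcases IsLocalRing.isUnit_or_isUnit_one_sub_self s with h | h
      · exact absurd (hmem.2 h) hx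
      · exact h.mul_left_eq_zero.1 (by rw [mul_sub, mul_one, hss, sub_self])
    haveI : Subsingleton (Y.presheaf.stalk x) := ⟨fun a b => by
      have hI : ∀ v, I v = 0 := fun v => by rw [← hQI v, hIQ, hs, zero_smul]
      rw [← hQI a, ← hQI b, hI a, hI b]⟩
    exact Module.finrank_zero_of_subsingleton

variable {K : Type v} [CommRing K] [LambdaRing.LambdaOps K]

/-- The classes of bundles of rank at most one. -/
def subCl (φ : SGA6.Kvb X →+ K) : Set K := {a | ∃ M, IsSub M ∧ a = φ (KRR.cl X M)}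

variable {φ : SGA6.Kvb X →+ K} (hK : Koszul.IsLam X K φ)

include hK in
theorem one_mem_subCl : (1 : K) ∈ subCl φ := ⟨_, isSub_structure, hK.map_one.symm⟩

include hK in
theorem mul_mem_subCl {a b : K} (ha : a ∈ subCl φ) (hb : b ∈ subCl φ) : a * b ∈ subCl φ := by
  obtain ⟨M, hM, rfl⟩ := ha
  obtain ⟨N, hN, rfl⟩ := hb
  exact ⟨_, hM.tensor hN, hK.map_mul M N hM.1 hN.1⟩

include hK in
theorem lineLike_of_mem_subCl {a : K} (ha : a ∈ subCl φ) : Lambda.LineLike a := by
  obtain ⟨M, hM, rfl⟩ := ha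
  intro i hi
  obtain ⟨L, hL, hML⟩ := Koszul.exists_extPow hM.1 i
  rw [hK.map_lam i M L hM.1 hL hML, KAugNil98.Main.cl_isZero (hM.isZero_extPow hi hML), map_zero]

/-- Classes of bundles generate. -/
theorem closure_cl_eq_top (hφ : Function.Surjective φ) :
    AddSubgroup.closure {a : K | ∃ E, FlatMod.IsFinLocFree E ∧ a = φ (KRR.cl X E)} = ⊤ := by
  refine eq_top_iff.2 fun a _ => ?_
  obtain ⟨z, rfl⟩ := hφ a
  have h := KRes.KSub.closure_eq_top (P := KRR.vbP X)
    (H := (AddSubgroup.closure {a : K | ∃ E, FlatMod.IsFinLocFree E ∧ a = φ (KRR.cl X E)}).comap φ)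
    fun E hE => AddSubgroup.subset_closure ⟨E, hE, rfl⟩
  exact (h.ge trivial :)

/-- A bundle made of rank one pieces complementing the rank of `E`. -/
theorem exists_complement {E : X.Modules} (hE : FlatMod.IsFinLocFree E) (φ : SGA6.Kvb X →+ K) :
    ∀ k : ℕ, ∃ C : X.Modules, FlatMod.IsFinLocFree C ∧
      φ (KRR.cl X C) ∈ AddSubgroup.closure (subCl φ) ∧
      ∀ x, KVec.Model.rk C x = k - KVec.Model.rk E x
  | 0 => by
    have h0 := TensorMod.LocFree.isFinLocFree_freeMod X 0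
    refine ⟨_, TensorMod.LocFree.of_rank h0, ?_, fun x => by rw [KVec.Model.rk_of_rank h0 x, Nat.zero_sub]⟩
    rw [KAugNil98.Main.cl_isZero (Cyc.CH.isZero_of_rank_zero h0), map_zero]
    exact zero_mem _
  | k + 1 => by
    obtain ⟨C, hC, hmem, hrk⟩ := exists_complement hE φ k
    have hl : IsLocallyConstant (KVec.Model.rk E) := (IsLocallyConstant.iff_exists_open _).2 fun y => by
      obtain ⟨U, n, hy, ⟨i⟩⟩ := hE y
      exact ⟨U, U.2, hy, fun z hz =>
        (KVec.Model.rk_chart i hz).trans (KVec.Model.rk_chart i hy).symm⟩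
    have hB : IsClopen {x | KVec.Model.rk E x ≤ k} :=
      ⟨⟨hl {m | m ≤ k}ᶜ⟩, hl {m | m ≤ k}⟩
    obtain ⟨M, hM, hMrk⟩ := exists_indicator hB
    obtain ⟨hCM, hcl, hadd⟩ := KVec.Model.cl_biprod hC hM
    refine ⟨C ⊞ M, hCM, ?_, fun x => ?_⟩
    · rw [hcl, map_add]
      refine add_mem hmem (AddSubgroup.subset_closure ⟨M, ⟨hM, fun x => ?_⟩, rfl⟩)
      by_cases h : KVec.Model.rk E x ≤ k
      · exact ((hMrk x).1 h).le
      · exact ((hMrk x).2 h).trans_le zero_le_one
    · rw [hadd x, hrk x]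
      by_cases h : KVec.Model.rk E x ≤ k
      · rw [(hMrk x).1 h]; omega
      · rw [(hMrk x).2 h]; omega

end Groth.Agent.Lib.ExchangeFP29.PBK.Sub1
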